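import Mathlib.RingTheory.Smooth.Basic
import Mathlib.RingTheory.MvPolynomial.Ideal
import Mathlib.RingTheory.FiniteType
import Mathlib.LinearAlgebra.FreeModule.Finite.Basic
import Mathlib.RingTheory.Finiteness.Cardinality

/-!
# The infinitesimal neighbourhoods of a section of a smooth algebra are finite projective
-/

set_option autoImplicit false

universe u

open MvPolynomial

namespace Groth.Agent.DynX.SS

variable {R : Type u} [CommRing R]

theorem finite_free_trunc (σ : Type) [Finite σ] (n : ℕ) :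
    Module.Finite R (MvPolynomial σ R ⧸ idealOfVars σ R ^ n) ∧
      Module.Free R (MvPolynomial σ R ⧸ idealOfVars σ R ^ n) := by
  classical
  have hfin : {x : σ →₀ ℕ | x.degree < n}.Finite :=
    (Finsupp.finite_of_degree_le n).subset fun x (hx : x.degree < n) => hx.le
  haveI : Fintype {x : σ →₀ ℕ // x.degree < n} := hfin.fintype
  let c : MvPolynomial σ R →ₗ[R] ({x : σ →₀ ℕ // x.degree < n} → R) := LinearMap.pi fun x => lcoeff R x.1
  have hc : Function.Surjective c := fun v => by
    refine ⟨∑ x, monomial x.1 (v x), funext fun y => ?_⟩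
    simp only [c, map_sum, Finset.sum_apply, LinearMap.pi_apply, lcoeff_apply, coeff_monomial]
    rw [Finset.sum_eq_single y (fun x _ hx => if_neg fun h => hx (Subtype.ext h))
      (fun h => absurd (Finset.mem_univ y) h), if_pos rfl]
  have hk : LinearMap.ker c = Submodule.restrictScalars R (idealOfVars σ R ^ n) := by
    ext p
    rw [LinearMap.mem_ker, Submodule.restrictScalars_mem, mem_pow_idealOfVars_iff']
    exact ⟨fun h x hx => congrFun h ⟨x, hx⟩, fun h => funext fun x => h x.1 x.2⟩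
  let e : (MvPolynomial σ R ⧸ idealOfVars σ R ^ n) ≃ₗ[R] ({x : σ →₀ ℕ // x.degree < n} → R) :=
    (Submodule.Quotient.restrictScalarsEquiv R (idealOfVars σ R ^ n)).symm ≪≫ₗ
      (Submodule.quotEquivOfEq _ _ hk.symm) ≪≫ₗ c.quotKerEquivOfSurjective hc
  exact ⟨Module.Finite.equiv e.symm, Module.Free.of_equiv e.symm⟩

/-- The neighbourhood of order `n` of a section of a smooth algebra is finite and projective. -/
theorem finite_projective_quotient_pow {B : Type u} [CommRing B] [Algebra R B] [Algebra.FiniteType R B]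
    [Algebra.FormallySmooth R B] (ε : B →ₐ[R] R) (n : ℕ) :
    Module.Finite R (B ⧸ RingHom.ker ε ^ (n + 1)) ∧ Module.Projective R (B ⧸ RingHom.ker ε ^ (n + 1)) := by
  classical
  let I : Ideal B := RingHom.ker ε
  obtain ⟨m, f, hf⟩ := Algebra.FiniteType.iff_quotient_mvPolynomial''.mp ‹Algebra.FiniteType R B›
  let t : Fin m → B := fun i => f (X i) - algebraMap R B (ε (f (X i)))
  have ht : ∀ i, t i ∈ I := fun i => by
    show ε (t i) = 0
    simp [t]
  let f₀ : MvPolynomial (Fin m) R →ₐ[R] B := aeval t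
  have hf₀ : Function.Surjective f₀ := by
    rw [← AlgHom.range_eq_top, eq_top_iff, ← (AlgHom.range_eq_top f).mpr hf]
    rintro _ ⟨p, rfl⟩
    have e : f = f₀.comp (aeval fun i => X i + C (ε (f (X i)))) :=
      algHom_ext fun i => by simp [f₀, t, algebraMap_eq]
    rw [e]
    exact ⟨_, rfl⟩
  have hI : (idealOfVars (Fin m) R).map f₀ ≤ I := by
    rw [idealOfVars, Ideal.map_span, Ideal.span_le]
    rintro _ ⟨_, ⟨i, rfl⟩, rfl⟩
    simpa [f₀] using ht i
  let J := idealOfVars (Fin m) R ^ (n + 1)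
  let T := MvPolynomial (Fin m) R ⧸ J
  let P := B ⧸ I ^ (n + 1)
  have hJ : ∀ p ∈ J, (Ideal.Quotient.mkₐ R (I ^ (n + 1))).comp f₀ p = 0 := fun p hp =>
    Ideal.Quotient.eq_zero_iff_mem.mpr (Ideal.pow_right_mono hI (n + 1)
      (Ideal.map_pow f₀ (idealOfVars (Fin m) R) (n + 1) ▸ Ideal.mem_map_of_mem f₀ hp))
  let F : T →ₐ[R] P := Ideal.Quotient.liftₐ J _ hJ
  have hF : Function.Surjective F := fun y => by
    obtain ⟨b, rfl⟩ := Ideal.Quotient.mk_surjective y
    obtain ⟨p, rfl⟩ := hf₀ b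
    exact ⟨Ideal.Quotient.mk J p, Ideal.Quotient.lift_mk _ _ _⟩
  obtain ⟨hTf, hTp⟩ := finite_free_trunc (R := R) (Fin m) (n + 1)
  haveI : Module.Finite R T := hTf
  haveI : Module.Free R T := hTp
  have hfin : Module.Finite R P := Module.Finite.of_surjective F.toLinearMap hF
  refine ⟨hfin, ?_⟩
  let εT : T →ₐ[R] R := Ideal.Quotient.liftₐ J (aeval fun _ => (0 : R)) fun p hp => by
    have h1 : idealOfVars (Fin m) R ≤ RingHom.ker (aeval (R := R) fun _ : Fin m => (0 : R)) := by
      rw [idealOfVars, Ideal.span_le]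
      rintro _ ⟨i, rfl⟩
      simp
    exact h1 (Ideal.pow_le_self n.succ_ne_zero hp)
  have hεT : RingHom.ker εT ≤ (idealOfVars (Fin m) R).map (Ideal.Quotient.mk J) := by
    intro y hy
    obtain ⟨p, rfl⟩ := Ideal.Quotient.mk_surjective y
    refine Ideal.mem_map_of_mem _ ?_
    have h0 : aeval (fun _ => (0 : R)) p = 0 := (Ideal.Quotient.lift_mk _ _ _).symm.trans hy
    rw [← pow_one (idealOfVars (Fin m) R), mem_pow_idealOfVars_iff']
    intro x hx
    rw [Nat.lt_one_iff, Finsupp.degree_eq_zero_iff] at hx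
    subst hx
    rwa [aeval_zero', Algebra.algebraMap_self_apply, constantCoeff_eq] at h0
  have hnil : RingHom.ker εT ^ (n + 1) = ⊥ := by
    refine le_bot_iff.mp ((Ideal.pow_right_mono hεT (n + 1)).trans ?_)
    rw [← Ideal.map_pow, Ideal.map_quotient_self]
  let εP : P →ₐ[R] R := Ideal.Quotient.liftₐ (I ^ (n + 1)) ε fun b hb => Ideal.pow_le_self n.succ_ne_zero hb
  have hεF : εP.comp F = εT := by
    refine Ideal.Quotient.algHom_ext _ (algHom_ext fun i => ?_)
    show εP (F (Ideal.Quotient.mk J (X i))) = εT (Ideal.Quotient.mk J (X i))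
    rw [show F (Ideal.Quotient.mk J (X i)) = Ideal.Quotient.mk (I ^ (n + 1)) (f₀ (X i)) from Ideal.Quotient.lift_mk _ _ _,
      show εP (Ideal.Quotient.mk (I ^ (n + 1)) (f₀ (X i))) = ε (f₀ (X i)) from Ideal.Quotient.lift_mk _ _ _,
      show εT (Ideal.Quotient.mk J (X i)) = aeval (fun _ => (0 : R)) (X i) from Ideal.Quotient.lift_mk _ _ _]
    have hti : ε (t i) = 0 := ht i
    simpa [f₀] using hti
  have hkF : IsNilpotent (RingHom.ker F) := ⟨n + 1, le_bot_iff.mp (hnil ▸ Ideal.pow_right_mono (fun y hy => by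
    rw [RingHom.mem_ker, ← hεF, AlgHom.comp_apply, show F y = 0 from hy, map_zero]) (n + 1))⟩
  let g : B →ₐ[R] T := Algebra.FormallySmooth.liftOfSurjective (Ideal.Quotient.mkₐ R (I ^ (n + 1))) F hF hkF
  have hg : ∀ b, F (g b) = Ideal.Quotient.mk (I ^ (n + 1)) b := fun b =>
    Algebra.FormallySmooth.liftOfSurjective_apply _ _ _ _ b
  have hgI : I ≤ (RingHom.ker εT).comap g := fun b hb => by
    rw [Ideal.mem_comap, RingHom.mem_ker, ← hεF, AlgHom.comp_apply, hg]
    exact (Ideal.Quotient.lift_mk _ _ _).trans hb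
  let sec : P →ₐ[R] T := Ideal.Quotient.liftₐ (I ^ (n + 1)) g fun b hb => by
    have h1 := (Ideal.pow_right_mono hgI (n + 1)).trans (Ideal.le_comap_pow g (n + 1)) hb
    rwa [Ideal.mem_comap, hnil, Ideal.mem_bot] at h1
  refine Module.Projective.of_split sec.toLinearMap F.toLinearMap (LinearMap.ext fun y => ?_)
  obtain ⟨b, rfl⟩ := Ideal.Quotient.mk_surjective y
  show F (sec (Ideal.Quotient.mk _ b)) = Ideal.Quotient.mk _ b
  rw [show sec (Ideal.Quotient.mk _ b) = g b from Ideal.Quotient.lift_mk _ _ _, hg]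

end Groth.Agent.DynX.SS
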