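import Groth.Agent.DynX.SS.Natural
import Groth.Agent.DynX.SS.FormalProj
import Mathlib.RingTheory.TensorProduct.Maps

/-!
# The action of a smooth group on the infinitesimal neighbourhoods of its unit section

Over an affine base `Spec R`, a chart of the unit section is an affine open neighbourhood `Spec B` of it.  A point `g`
with values in an `R`-algebra `C` gives by conjugation an endomorphism of the `C`-algebra `C ⊗ B / I ^ (n + 1)`, `I`
being the ideal of the section; this is multiplicative and natural in `C`.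
-/

set_option autoImplicit false
set_option linter.style.haveILetI false

universe u

open CategoryTheory CategoryTheory.Limits AlgebraicGeometry MonoidalCategory CartesianMonoidalCategory
open MonObj GrpObj Groth.Agent.GrpSchLib.AffineHopf
open scoped TensorProduct

noncomputable section

namespace Groth.Agent.DynX.SS

variable {R : Type u} [CommRing R]

/-- An affine open neighbourhood of the unit section. -/
structure Chart (G : Over (Spec (CommRingCat.of R))) [GrpObj G] where
  B : Type u
  [ringB : CommRing B]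
  [algB : Algebra R B]
  [ft : Algebra.FiniteType R B]
  [fsm : Algebra.FormallySmooth R B]
  emb : sp R B ⟶ G
  [openEmb : IsOpenImmersion emb.left]
  ε : B →ₐ[R] R
  unit : spMap ε ≫ emb = 1

attribute [instance] Chart.ringB Chart.algB Chart.ft Chart.fsm Chart.openEmb

variable {G : Over (Spec (CommRingCat.of R))} [GrpObj G] (c : Chart G) (n : ℕ)

/-- The ideal of the section. -/
abbrev Chart.I : Ideal c.B := RingHom.ker c.ε

/-- The functions on the neighbourhood of order `n`. -/
abbrev Chart.P : Type u := c.B ⧸ c.I ^ (n + 1)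

/-- The augmentation of the neighbourhood. -/
def Chart.εP : c.P n →ₐ[R] R :=
  Ideal.Quotient.liftₐ _ c.ε fun _ hb => Ideal.pow_le_self n.succ_ne_zero hb

theorem Chart.εP_mk (b : c.B) : c.εP n (Ideal.Quotient.mk _ b) = c.ε b := rfl

theorem Chart.ker_εP_pow : RingHom.ker (c.εP n) ^ (n + 1) = ⊥ := by
  have h : RingHom.ker (c.εP n) ≤ c.I.map (Ideal.Quotient.mk (c.I ^ (n + 1))) := fun y hy => by
    obtain ⟨b, rfl⟩ := Ideal.Quotient.mk_surjective y
    exact Ideal.mem_map_of_mem _ hy
  refine le_bot_iff.mp ((Ideal.pow_right_mono h (n + 1)).trans ?_)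
  rw [← Ideal.map_pow, Ideal.map_quotient_self]

/-- The neighbourhood in the group. -/
def Chart.jP : sp R (c.P n) ⟶ G := spMap (Ideal.Quotient.mkₐ R (c.I ^ (n + 1))) ≫ c.emb

theorem Chart.unit_εP {C : Type u} [CommRing C] [Algebra R C] :
    spMap ((Algebra.ofId R C).comp (c.εP n)) ≫ c.jP n = 1 := by
  have e : (c.εP n).comp (Ideal.Quotient.mkₐ R (c.I ^ (n + 1))) = c.ε := AlgHom.ext fun _ => rfl
  rw [Chart.jP, ← Category.assoc, spMap_comp, AlgHom.comp_assoc, e, ← spMap_comp, Category.assoc, c.unit,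
    MonObj.comp_one]

theorem Chart.mono_emb : Mono c.emb := (Over.forget _).mono_of_mono_map (inferInstanceAs (Mono c.emb.left))

theorem Chart.jP_inj {D : Type u} [CommRing D] [Algebra R D] {a a' : c.P n →ₐ[R] D}
    (h : spMap a ≫ c.jP n = spMap a' ≫ c.jP n) : a = a' := by
  haveI := c.mono_emb
  rw [Chart.jP, ← Category.assoc, ← Category.assoc, cancel_mono, spMap_comp, spMap_comp] at h
  refine AlgHom.ext fun y => ?_
  obtain ⟨b, rfl⟩ := Ideal.Quotient.mk_surjective y
  exact AlgHom.congr_fun (spMap_inj h) b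

variable {C : Type u} [CommRing C] [Algebra R C]

/-- The coefficient algebra. -/
abbrev inL : C →ₐ[R] C ⊗[R] c.P n := Algebra.TensorProduct.includeLeft

/-- The algebra of the neighbourhood. -/
abbrev inR : c.P n →ₐ[R] C ⊗[R] c.P n := Algebra.TensorProduct.includeRight

/-- The tautological point of the neighbourhood conjugated by a point. -/
def Chart.cg (g : sp R C ⟶ G) : sp R (C ⊗[R] c.P n) ⟶ G :=
  (spMap (inL c n) ≫ g)⁻¹ * (spMap (inR c n) ≫ c.jP n) * (spMap (inL c n) ≫ g)

theorem Chart.exists_act (g : sp R C ⟶ G) :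
    ∃ a : c.P n →ₐ[R] C ⊗[R] c.P n, spMap a ≫ c.jP n = c.cg n g := by
  let D := C ⊗[R] c.P n
  let z : D →ₐ[R] C := Algebra.TensorProduct.lift (AlgHom.id R C) ((Algebra.ofId R C).comp (c.εP n))
    fun _ _ => Commute.all _ _
  have hzL : z.comp (inL c n) = AlgHom.id R C := Algebra.TensorProduct.lift_comp_includeLeft _ _ _
  have hzR : z.comp (inR c n) = (Algebra.ofId R C).comp (c.εP n) :=
    Algebra.TensorProduct.lift_comp_includeRight' _ _ _
  have hz : spMap z ≫ c.cg n g = 1 := by
    rw [Chart.cg, MonObj.comp_mul, MonObj.comp_mul, GrpObj.comp_inv, ← Category.assoc, ← Category.assoc, spMap_comp,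
      spMap_comp, hzL, hzR, spMap_id, Category.id_comp, c.unit_εP, _root_.mul_one, inv_mul_cancel]
  let J : Ideal D := (RingHom.ker (c.εP n)).map (inR c n)
  have hJ : RingHom.ker z ≤ J := by
    have key : ∀ y : D, y - inL c n (z y) ∈ J := by
      intro y
      induction y using TensorProduct.induction_on with
      | zero => simp
      | add s t hs ht => simp only [map_add, add_sub_add_comm]; exact J.add_mem hs ht
      | tmul x p =>
        have e : x ⊗ₜ[R] p - inL c n (z (x ⊗ₜ[R] p)) =
            inL c n x * inR c n (p - algebraMap R (c.P n) (c.εP n p)) := by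
          have e1 : z (x ⊗ₜ[R] p) = x * algebraMap R C (c.εP n p) := Algebra.TensorProduct.lift_tmul _ _ _ x p
          rw [e1, map_sub, AlgHom.commutes, mul_sub, map_mul, AlgHom.commutes]
          simp [inL, inR]
        rw [e]
        refine J.mul_mem_left _ (Ideal.mem_map_of_mem _ ?_)
        rw [RingHom.mem_ker, map_sub, AlgHom.commutes, Algebra.algebraMap_self_apply, sub_self]
    intro y hy
    have h0 : z y = 0 := hy
    simpa [h0] using key y
  have hJn : J ^ (n + 1) = ⊥ := by
    show Ideal.map _ _ ^ _ = ⊥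
    rw [← Ideal.map_pow, c.ker_εP_pow, Ideal.map_bot]
  have hzs : Function.Surjective z := fun x => ⟨inL c n x, AlgHom.congr_fun hzL x⟩
  have hrange : Set.range (c.cg n g).left ⊆ Set.range c.emb.left := by
    rintro _ ⟨p, rfl⟩
    have hr := range_comap_of_surjective C z.toRingHom hzs
    obtain ⟨p', hp'⟩ : (p : PrimeSpectrum D) ∈ Set.range (PrimeSpectrum.comap z.toRingHom) := by
      refine hr.symm ▸ ?_
      show RingHom.ker z ≤ (p : PrimeSpectrum D).asIdeal
      intro y hy
      refine (p : PrimeSpectrum D).isPrime.mem_of_pow_mem (n + 1) ?_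
      rw [show y ^ (n + 1) = 0 from (Ideal.mem_bot (R := D)).mp (hJn ▸ Ideal.pow_mem_pow (hJ hy) (n + 1))]
      exact zero_mem _
    refine ⟨(spMap ((Algebra.ofId R C).comp (c.εP n)) ≫ spMap (Ideal.Quotient.mkₐ R (c.I ^ (n + 1)))).left p', ?_⟩
    rw [← Scheme.Hom.comp_apply, ← Over.comp_left, Category.assoc, show _ ≫ _ ≫ c.emb = (1 : sp R C ⟶ G) from
      c.unit_εP n, ← hz, Over.comp_left, Scheme.Hom.comp_apply]
    exact congrArg (c.cg n g).left hp'
  let l : sp R D ⟶ sp R c.B := Over.homMk (IsOpenImmersion.lift c.emb.left (c.cg n g).left hrange)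
    (by rw [← Over.w c.emb, IsOpenImmersion.lift_fac_assoc]; exact Over.w _)
  have hl : l ≫ c.emb = c.cg n g := Over.OverMorphism.ext (IsOpenImmersion.lift_fac _ _ _)
  obtain ⟨a₀, ha₀⟩ := exists_spMap l
  haveI := c.mono_emb
  have hza : z.comp a₀ = (Algebra.ofId R C).comp c.ε := by
    refine spMap_inj ?_
    rw [← cancel_mono c.emb, ← spMap_comp, Category.assoc, ← ha₀, hl, hz, ← spMap_comp, Category.assoc, c.unit,
      MonObj.comp_one]
  have hkill : ∀ b ∈ c.I ^ (n + 1), a₀ b = 0 := by
    intro b hb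
    have h1 : c.I ≤ J.comap a₀ := fun x hx => hJ (by
      show z (a₀ x) = 0
      rw [← AlgHom.comp_apply, hza, AlgHom.comp_apply, show c.ε x = 0 from hx, map_zero])
    have h2 := (Ideal.pow_right_mono h1 (n + 1)).trans (Ideal.le_comap_pow a₀ (n + 1)) hb
    rwa [Ideal.mem_comap, hJn, Ideal.mem_bot] at h2
  refine ⟨Ideal.Quotient.liftₐ (c.I ^ (n + 1)) a₀ hkill, ?_⟩
  rw [Chart.jP, ← Category.assoc, spMap_comp,
    show (Ideal.Quotient.liftₐ (c.I ^ (n + 1)) a₀ hkill).comp (Ideal.Quotient.mkₐ R (c.I ^ (n + 1))) = a₀ from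
      AlgHom.ext fun _ => rfl, ← ha₀, hl]

/-- The conjugation of the neighbourhood by a point. -/
def Chart.act (g : sp R C ⟶ G) : c.P n →ₐ[R] C ⊗[R] c.P n := (c.exists_act n g).choose

theorem Chart.act_spec (g : sp R C ⟶ G) : spMap (c.act n g) ≫ c.jP n = c.cg n g := (c.exists_act n g).choose_spec

theorem Chart.act_eq_iff (g : sp R C ⟶ G) (a : c.P n →ₐ[R] C ⊗[R] c.P n) :
    c.act n g = a ↔ spMap a ≫ c.jP n = c.cg n g :=
  ⟨fun h => h ▸ c.act_spec n g, fun h => c.jP_inj n ((c.act_spec n g).trans h.symm)⟩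

/-- The conjugation as an endomorphism of the base-changed neighbourhood. -/
def Chart.actE (g : sp R C ⟶ G) : C ⊗[R] c.P n →ₐ[C] C ⊗[R] c.P n :=
  Algebra.TensorProduct.lift (Algebra.ofId C _) (c.act n g) fun _ _ => Commute.all _ _

theorem Chart.actE_comp_inR (g : sp R C ⟶ G) : ((c.actE n g).restrictScalars R).comp (inR c n) = c.act n g :=
  AlgHom.ext fun x => by simp [Chart.actE, inR]

theorem Chart.actE_comp_inL (g : sp R C ⟶ G) : ((c.actE n g).restrictScalars R).comp (inL c n) = inL c n :=
  AlgHom.ext fun x => by simp [Chart.actE, inL]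

theorem Chart.cg_mul (g h : sp R C ⟶ G) :
    spMap ((c.actE n g).restrictScalars R) ≫ c.cg n h = c.cg n (g * h) := by
  rw [Chart.cg, MonObj.comp_mul, MonObj.comp_mul, GrpObj.comp_inv, ← Category.assoc, ← Category.assoc, spMap_comp,
    spMap_comp, c.actE_comp_inL, c.actE_comp_inR, c.act_spec, Chart.cg, Chart.cg, MonObj.comp_mul]
  group

theorem Chart.act_mul (g h : sp R C ⟶ G) :
    c.act n (g * h) = ((c.actE n g).restrictScalars R).comp (c.act n h) := by
  rw [c.act_eq_iff, ← spMap_comp, Category.assoc, c.act_spec, c.cg_mul]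

theorem Chart.act_one : c.act n (1 : sp R C ⟶ G) = inR c n := by
  rw [c.act_eq_iff, Chart.cg, MonObj.comp_one, inv_one, _root_.one_mul, _root_.mul_one]

theorem Chart.actE_mul (g h : sp R C ⟶ G) : c.actE n (g * h) = (c.actE n g).comp (c.actE n h) := by
  refine Algebra.TensorProduct.ext' fun x p => ?_
  have e1 : c.act n (g * h) p = c.actE n g (c.act n h p) := AlgHom.congr_fun (c.act_mul n g h) p
  simp only [Chart.actE, AlgHom.comp_apply, Algebra.TensorProduct.lift_tmul, map_mul, AlgHom.commutes,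
    Algebra.ofId_apply] at e1 ⊢
  rw [e1]

theorem Chart.actE_one : c.actE n (1 : sp R C ⟶ G) = AlgHom.id C _ := by
  refine Algebra.TensorProduct.ext' fun x p => ?_
  simp [Chart.actE, c.act_one, inR, Algebra.TensorProduct.algebraMap_apply]

theorem Chart.actE_eq_id_iff (g : sp R C ⟶ G) : c.actE n g = AlgHom.id C _ ↔ c.act n g = inR c n := by
  constructor
  · intro h
    rw [← c.actE_comp_inR, h]
    exact AlgHom.ext fun _ => rfl
  · intro h
    rw [← c.actE_one n (C := C), Chart.actE, Chart.actE]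
    simp only [h, c.act_one]

variable {C' : Type u} [CommRing C'] [Algebra R C'] (φ : C →ₐ[R] C')

/-- The change of coefficients. -/
abbrev Chart.coef : C ⊗[R] c.P n →ₐ[R] C' ⊗[R] c.P n := Algebra.TensorProduct.map φ (AlgHom.id R _)

theorem Chart.act_natural (g : sp R C ⟶ G) :
    c.act n (spMap φ ≫ g) = (c.coef n φ).comp (c.act n g) := by
  have hL : (c.coef n φ).comp (inL c n) = (inL c n).comp φ := AlgHom.ext fun x => by simp [inL]
  have hR : (c.coef n φ).comp (inR c n) = inR c n := AlgHom.ext fun x => by simp [inR]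
  rw [c.act_eq_iff, ← spMap_comp, Category.assoc, c.act_spec, Chart.cg, Chart.cg, MonObj.comp_mul, MonObj.comp_mul,
    GrpObj.comp_inv, ← Category.assoc, ← Category.assoc, spMap_comp, spMap_comp, hL, hR, ← spMap_comp, Category.assoc]

/-- A point trivial on a neighbourhood is trivial on the smaller ones. -/
theorem Chart.act_eq_of_le {m : ℕ} (hm : m ≤ n) (g : sp R C ⟶ G) (h : c.act n g = inR c n) :
    c.act m g = inR c m := by
  let π : c.P n →ₐ[R] c.P m := Ideal.Quotient.liftₐ _ (Ideal.Quotient.mkₐ R (c.I ^ (m + 1))) fun b hb =>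
    Ideal.Quotient.eq_zero_iff_mem.mpr (Ideal.pow_le_pow_right (by omega) hb)
  let Ψ : C ⊗[R] c.P n →ₐ[R] C ⊗[R] c.P m := Algebra.TensorProduct.map (AlgHom.id R C) π
  have hL : Ψ.comp (inL c n) = inL c m := AlgHom.ext fun x => by simp [Ψ, inL]
  have hR : Ψ.comp (inR c n) = (inR c m).comp π := AlgHom.ext fun x => by simp [Ψ, inR]
  have hj : spMap π ≫ c.jP n = c.jP m := by
    rw [Chart.jP, Chart.jP, ← Category.assoc, spMap_comp]
    rfl
  rw [c.act_eq_iff]
  have h1 : spMap Ψ ≫ c.cg n g = c.cg m g := by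
    rw [Chart.cg, Chart.cg, MonObj.comp_mul, MonObj.comp_mul, GrpObj.comp_inv, ← Category.assoc, ← Category.assoc,
      spMap_comp, spMap_comp, hL, hR, ← spMap_comp, Category.assoc, hj]
  rw [← h1, (c.act_eq_iff n g _).mp h |>.symm, ← Category.assoc, spMap_comp, hR, ← spMap_comp, Category.assoc, hj]

end Groth.Agent.DynX.SS
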