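import Groth.Agent.GrpSchLib.GeomIrr
import Groth.Agent.GrpSchLib.FieldComp
import Mathlib.AlgebraicGeometry.ValuativeCriterion
import Mathlib.AlgebraicGeometry.Morphisms.UniversallyOpen
import Mathlib.AlgebraicGeometry.Sites.Fpqc
import Mathlib.RingTheory.Flat.Basic
import Groth.Prelude.Def_Red

/-!
# Flat groups with connected geometric fibres are separated

By the valuative criterion it is enough that a point with values in a valuation ring which is trivial at the
generic point is trivial.  Left translation by such a point agrees with the identity over an open of the special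
fibre, by flatness and the irreducibility of this fibre.
-/

set_option autoImplicit false
set_option linter.style.haveILetI false

universe u

open CategoryTheory CategoryTheory.Limits AlgebraicGeometry MonoidalCategory CartesianMonoidalCategory
open MonObj GrpObj
open scoped TensorProduct

noncomputable section

namespace Groth.Agent.DynX.SS

variable {S : Scheme.{u}} {G : Over S} [GrpObj G]

/-- The fibre at a point with values in an algebraically closed field is irreducible. -/
theorem irreducible_geom_fibre [LocallyOfFiniteType G.hom]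
    (hconn : ∀ s : S, ConnectedSpace ↥(Red.geomFibre s G).left) {K : Type u} [Field K] [IsAlgClosed K]
    (b : Spec (CommRingCat.of K) ⟶ S) : IrreducibleSpace ↥(pullback G.hom b) := by
  let s := b (IsLocalRing.closedPoint K)
  let k₀ := S.residueField s
  let L := AlgebraicClosure k₀
  haveI : LocallyOfFiniteType (Red.geomFibre s G).hom :=
    inferInstanceAs (LocallyOfFiniteType (pullback.snd G.hom _))
  have hirr : IrreducibleSpace ↥(Red.geomFibre s G).left := by
    haveI := hconn s
    let e := η[Red.geomFibre s G].left (IsLocalRing.closedPoint L)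
    obtain ⟨g, hg, hge⟩ := GrpSchLib.exists_isMaxPt e
    rw [irreducibleSpace_def, Set.top_eq_univ, ← PreconnectedSpace.connectedComponent_eq_univ e,
      GrpSchLib.connectedComponent_one hg hge]
    exact isIrreducible_singleton.closure
  obtain ⟨φ, hφ⟩ : ∃ φ : k₀ →+* K, b = Spec.map (CommRingCat.ofHom φ) ≫ S.fromSpecResidueField s :=
    ⟨(Scheme.descResidueField (Scheme.stalkClosedPointTo b)).hom,
      (Scheme.descResidueField_stalkClosedPointTo_fromSpecResidueField (K := K) (X := S) b).symm⟩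
  let : Algebra k₀ K := φ.toAlgebra
  let ψ : L →ₐ[k₀] K := IsAlgClosed.lift
  let t := Spec.map (CommRingCat.ofHom ψ.toRingHom)
  have hb : t ≫ Red.geomPt s = b := by
    rw [hφ, ← Category.assoc, ← Spec.map_comp, ← CommRingCat.ofHom_comp]
    congr 3
    exact RingHom.ext fun r => ψ.commutes r
  haveI : IrreducibleSpace ↥(pullback G.hom (Red.geomPt s)) := hirr
  have h1 : IrreducibleSpace ↥(pullback (pullback.snd G.hom (Red.geomPt s)) t) :=
    GrpSchLib.irreducibleSpace_pullback_of_isAlgClosed _ ψ.toRingHom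
  exact ((pullbackLeftPullbackSndIso G.hom (Red.geomPt s) t) ≪≫
    pullback.congrHom rfl hb).hom.homeomorph.irreducibleSpace_iff.mp h1

/-- The fibre at a point with values in a field is irreducible. -/
theorem irreducible_field_fibre [LocallyOfFiniteType G.hom]
    (hconn : ∀ s : S, ConnectedSpace ↥(Red.geomFibre s G).left) {K : Type u} [Field K]
    (b : Spec (CommRingCat.of K) ⟶ S) : IrreducibleSpace ↥(pullback G.hom b) := by
  let t : Spec (CommRingCat.of (AlgebraicClosure K)) ⟶ Spec (CommRingCat.of K) :=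
    Spec.map (CommRingCat.ofHom (algebraMap K (AlgebraicClosure K)))
  haveI : Surjective t := ⟨fun x => ⟨IsLocalRing.closedPoint _, @Subsingleton.elim (PrimeSpectrum K) _ _ _⟩⟩
  haveI := irreducible_geom_fibre hconn (t ≫ b)
  let e := pullbackLeftPullbackSndIso G.hom b t
  let p := e.inv ≫ pullback.fst (pullback.snd G.hom b) t
  have hp : Function.Surjective p := (inferInstance : Surjective p).surj
  rw [irreducibleSpace_def, Set.top_eq_univ, ← hp.range_eq, ← Set.image_univ]
  exact (IrreducibleSpace.isIrreducible_univ _).image _ p.continuous.continuousOn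

/-- A point with values in a local domain which is trivial at the generic point is trivial. -/
theorem eq_one_of_generic [Flat G.hom] [LocallyOfFiniteType G.hom]
    (hconn : ∀ s : S, ConnectedSpace ↥(Red.geomFibre s G).left) {R : Type u} [CommRing R] [IsDomain R]
    [IsLocalRing R] {K : Type u} [Field K] [Algebra R K] [IsFractionRing R K] (i₂ : Spec (CommRingCat.of R) ⟶ S)
    (h : Over.mk i₂ ⟶ G) (TK : Over S) (j : TK ⟶ Over.mk i₂) (eK : TK.left ≅ Spec (CommRingCat.of K))
    (hjK : j.left = eK.hom ≫ Spec.map (CommRingCat.ofHom (algebraMap R K))) (hh : j ≫ h = 1) : h = 1 := by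
  let T : Over S := Over.mk i₂
  let π : (T ⊗ G).left ⟶ Spec (CommRingCat.of R) := (fst T G).left
  let φ : T ⊗ G ⟶ T ⊗ G := lift (fst T G) ((fst T G ≫ h) * snd T G)
  let θ : T ⊗ G ⟶ T ⊗ G := lift (fst T G) ((fst T G ≫ h)⁻¹ * snd T G)
  have hθ : θ ≫ φ = 𝟙 _ := by
    apply CartesianMonoidalCategory.hom_ext
    · simp [θ, φ]
    · simp only [θ, φ, Category.assoc, lift_snd, MonObj.comp_mul, lift_fst_assoc, Category.id_comp]
      group
  let p₂ : (T ⊗ G).left ⟶ G.left := (snd T G).left
  let ψ : (T ⊗ G).left ⟶ G.left := (φ ≫ snd T G).left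
  let x₀ : Spec (CommRingCat.of R) := IsLocalRing.closedPoint R
  let F : Set ↥(T ⊗ G).left := π ⁻¹' {x₀}
  have hF : IsIrreducible F := by
    let t := (Spec (CommRingCat.of R)).fromSpecResidueField x₀
    haveI : IrreducibleSpace ↥(pullback G.hom (t ≫ i₂)) := irreducible_field_fibre hconn (t ≫ i₂)
    let e : pullback π t ≅ pullback G.hom (t ≫ i₂) :=
      asIso (pullback.map π t (pullback.snd G.hom i₂) t (pullbackSymmetry i₂ G.hom).hom (𝟙 _) (𝟙 _)
        (by rw [Category.comp_id]; exact (pullbackSymmetry_hom_comp_snd _ _).symm) (by simp)) ≪≫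
        pullbackLeftPullbackSndIso G.hom i₂ t
    haveI : IrreducibleSpace ↥(pullback π t) := e.hom.homeomorph.irreducibleSpace_iff.mpr inferInstance
    have h1 := (IrreducibleSpace.isIrreducible_univ ↥(pullback π t)).image _
      (pullback.fst π t).continuous.continuousOn
    rwa [Set.image_univ, Scheme.Pullback.range_fst, Scheme.range_fromSpecResidueField] at h1
  obtain ⟨z₀, hz₀⟩ := hF.nonempty
  obtain ⟨U, hU, hzU, -⟩ := exists_isAffineOpen_mem_and_subset (U := (⊤ : G.left.Opens)) (x := p₂ z₀) trivial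
  have hθF : θ.left z₀ ∈ F := by
    show π (θ.left z₀) = x₀
    rw [← Scheme.Hom.comp_apply, show θ.left ≫ π = π from congrArg (fun r : _ ⟶ T => r.left) (lift_fst _ _)]
    exact hz₀
  have hθU : ψ (θ.left z₀) ∈ U := by
    rw [← Scheme.Hom.comp_apply, show θ.left ≫ ψ = p₂ by
      show (θ ≫ φ ≫ snd T G).left = p₂
      rw [← Category.assoc, hθ, Category.id_comp]]
    exact hzU
  obtain ⟨w, hwF, hw₁, hw₂⟩ := hF.isPreirreducible _ _ (p₂ ⁻¹ᵁ U).2 (ψ ⁻¹ᵁ U).2 ⟨z₀, hz₀, hzU⟩
    ⟨θ.left z₀, hθF, hθU⟩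
  obtain ⟨W, hW, hwW, hWsub⟩ := exists_isAffineOpen_mem_and_subset (U := p₂ ⁻¹ᵁ U ⊓ ψ ⁻¹ᵁ U) (x := w) ⟨hw₁, hw₂⟩
  let B := Γ((T ⊗ G).left, W)
  let ρ : CommRingCat.of R ⟶ B := Spec.preimage (hW.fromSpec ≫ π)
  have hρ : Spec.map ρ = hW.fromSpec ≫ π := Spec.map_preimage _
  haveI : Flat π := inferInstanceAs (Flat (pullback.fst i₂ G.hom))
  haveI hflρ : Flat (Spec.map ρ) := by rw [hρ]; infer_instance
  letI : Algebra R B := ρ.hom.toAlgebra
  haveI : Module.Flat R B := (HasRingHomProperty.Spec_iff (P := @Flat)).mp hflρ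
  let Bk := B ⊗[R] K
  let inB : B →+* Bk := Algebra.TensorProduct.includeLeftRingHom
  have hι : Function.Injective inB := Algebra.TensorProduct.includeLeft_injective (S := R) (A := B)
    (IsFractionRing.injective R K)
  let inK : K →+* Bk := (Algebra.TensorProduct.includeRight : K →ₐ[R] Bk).toRingHom
  let q : Spec (CommRingCat.of Bk) ⟶ (T ⊗ G).left := Spec.map (CommRingCat.ofHom inB) ≫ hW.fromSpec
  have hq : q ≫ π = Spec.map (CommRingCat.ofHom inK) ≫ Spec.map (CommRingCat.ofHom (algebraMap R K)) := by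
    rw [Category.assoc, ← hρ, ← Spec.map_comp, ← Spec.map_comp]
    congr 1
    ext r
    show (algebraMap R B r) ⊗ₜ[R] (1 : K) = (1 : B) ⊗ₜ[R] algebraMap R K r
    rw [Algebra.algebraMap_eq_smul_one, Algebra.algebraMap_eq_smul_one, TensorProduct.smul_tmul]
  let Q : Over S := Over.mk (q ≫ (T ⊗ G).hom)
  let m : Q ⟶ T ⊗ G := Over.homMk q rfl
  let k : Q ⟶ TK := Over.homMk (Spec.map (CommRingCat.ofHom inK) ≫ eK.inv) (by
    show _ = q ≫ (T ⊗ G).hom
    rw [← Over.w (fst T G), ← Over.w j, hjK, Category.assoc, Category.assoc, eK.inv_hom_id_assoc,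
      show q ≫ π ≫ T.hom = (q ≫ π) ≫ T.hom from (Category.assoc _ _ _).symm, hq, Category.assoc])
  have hkm : k ≫ j = m ≫ fst T G := by
    ext1
    show (Spec.map (CommRingCat.ofHom inK) ≫ eK.inv) ≫ j.left = q ≫ π
    rw [hq, hjK, Category.assoc, eK.inv_hom_id_assoc]
  have hgen : m ≫ φ ≫ snd T G = m ≫ snd T G := by
    rw [lift_snd, MonObj.comp_mul, ← reassoc_of% hkm, hh, MonObj.comp_one, _root_.one_mul]
  haveI : IsAffine U.toScheme := hU
  have hr : ∀ f : (T ⊗ G).left ⟶ G.left, W ≤ f ⁻¹ᵁ U → Set.range (hW.fromSpec ≫ f) ⊆ Set.range U.ι := by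
    rintro f hf _ ⟨z, rfl⟩
    rw [Scheme.Opens.range_ι, Scheme.Hom.comp_apply]
    exact hf (hW.range_fromSpec ▸ ⟨z, rfl⟩ : hW.fromSpec z ∈ (W : Set _))
  let u := IsOpenImmersion.lift U.ι (hW.fromSpec ≫ p₂) (hr p₂ fun z hz => (hWsub hz).1)
  let v := IsOpenImmersion.lift U.ι (hW.fromSpec ≫ ψ) (hr ψ fun z hz => (hWsub hz).2)
  have huv : u = v := by
    have h1 : Spec.map (CommRingCat.ofHom inB) ≫ u = Spec.map (CommRingCat.ofHom inB) ≫ v := by
      rw [← cancel_mono U.ι, Category.assoc, Category.assoc, IsOpenImmersion.lift_fac, IsOpenImmersion.lift_fac]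
      have h0 : q ≫ ψ = q ≫ p₂ := congrArg CommaMorphism.left hgen
      simp only [q, Category.assoc] at h0
      exact h0.symm
    rw [← cancel_mono U.toScheme.isoSpec.hom]
    obtain ⟨α, hα⟩ := Spec.map_surjective (u ≫ U.toScheme.isoSpec.hom)
    obtain ⟨β, hβ⟩ := Spec.map_surjective (v ≫ U.toScheme.isoSpec.hom)
    have h2 : Spec.map (CommRingCat.ofHom inB) ≫ Spec.map α = Spec.map (CommRingCat.ofHom inB) ≫ Spec.map β := by
      rw [hα, hβ, reassoc_of% h1]
    rw [← Spec.map_comp, ← Spec.map_comp] at h2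
    have h3 := Spec.map_injective h2
    rw [← hα, ← hβ]
    congr 1
    exact CommRingCat.hom_ext (RingHom.ext fun a => hι (congrArg (fun f => f.hom a) h3))
  let P : Over S := Over.mk (hW.fromSpec ≫ (T ⊗ G).hom)
  let n : P ⟶ T ⊗ G := Over.homMk hW.fromSpec rfl
  have hn : n ≫ φ ≫ snd T G = n ≫ snd T G := by
    ext1
    show hW.fromSpec ≫ ψ = hW.fromSpec ≫ p₂
    rw [← IsOpenImmersion.lift_fac U.ι (hW.fromSpec ≫ ψ) (hr ψ fun z hz => (hWsub hz).2),
      ← IsOpenImmersion.lift_fac U.ι (hW.fromSpec ≫ p₂) (hr p₂ fun z hz => (hWsub hz).1)]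
    exact congrArg (· ≫ U.ι) huv.symm
  rw [lift_snd, MonObj.comp_mul, mul_eq_right] at hn
  let c := n ≫ fst T G
  haveI : Flat c.left := by
    show Flat (hW.fromSpec ≫ π)
    rw [← hρ]; exact hflρ
  haveI : Surjective c.left := by
    constructor
    intro y
    have hy : (y : Spec (CommRingCat.of R)) ⤳ x₀ := IsLocalRing.specializes_closedPoint y
    obtain ⟨w', hw'⟩ : w ∈ Set.range hW.fromSpec := by rw [hW.range_fromSpec]; exact hwW
    obtain ⟨y', -, hy'⟩ := (Flat.generalizingMap c.left) (show y ⤳ c.left w' by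
      show y ⤳ π (hW.fromSpec w')
      rw [hw', show π w = x₀ from hwF]
      exact hy)
    exact ⟨y', hy'⟩
  haveI : IsAffine P.left := inferInstanceAs (IsAffine (Spec B))
  haveI : IsAffineHom c.left := isAffineHom_of_isAffine (Y := Spec (CommRingCat.of R)) _
  haveI : Epi c := Over.epi_of_epi_left _
  rw [← cancel_epi c, MonObj.comp_one, show c ≫ h = n ≫ fst T G ≫ h from Category.assoc _ _ _, hn]

/-- A flat quasi-separated group with connected geometric fibres is separated. -/
theorem isSeparated [Flat G.hom] [LocallyOfFiniteType G.hom] [QuasiSeparated G.hom]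
    (hconn : ∀ s : S, ConnectedSpace ↥(Red.geomFibre s G).left) : IsSeparated G.hom := by
  refine IsSeparated.of_valuativeCriterion G.hom ?_
  rintro ⟨R, K, i₁, i₂, sq⟩
  refine ⟨fun l l' => CommSq.LiftStruct.ext ?_⟩
  let T : Over S := Over.mk i₂
  let a : T ⟶ G := Over.homMk l.l l.fac_right
  let a' : T ⟶ G := Over.homMk l'.l l'.fac_right
  let TK : Over S := Over.mk (Spec.map (CommRingCat.ofHom (algebraMap R K)) ≫ i₂)
  let j : TK ⟶ T := Over.homMk (Spec.map (CommRingCat.ofHom (algebraMap R K))) rfl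
  have e : j ≫ a = j ≫ a' := Over.OverMorphism.ext (l.fac_left.trans l'.fac_left.symm)
  have h := eq_one_of_generic hconn (K := K) i₂ ((a : T ⟶ G) * (a' : T ⟶ G)⁻¹ : T ⟶ G) TK j (Iso.refl _) (Category.id_comp _).symm
    (by rw [MonObj.comp_mul, GrpObj.comp_inv, e, mul_inv_cancel])
  have h' : a = a' := mul_inv_eq_one.mp (h : (a : T ⟶ G) * (a' : T ⟶ G)⁻¹ = 1)
  exact congrArg CommaMorphism.left h'

end Groth.Agent.DynX.SS
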