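import Groth.Agent.DynX.SS.AdjAct
import Groth.Agent.DynX.SS.Separated
import Groth.Agent.GrpSchLib.SmoothReduced
import Mathlib.AlgebraicGeometry.Morphisms.Separated
import Mathlib.RingTheory.Filtration

/-!
# Points acting trivially on all infinitesimal neighbourhoods are central

For a smooth separated group with connected geometric fibres, a point with values in an algebraically closed field
which fixes every infinitesimal neighbourhood of the unit commutes with all points of the fibre: conjugation and the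
identity agree on the formal completion of the integral fibre at the unit, hence everywhere by Krull's theorem.
-/

set_option autoImplicit false
set_option linter.style.haveILetI false

universe u

open CategoryTheory CategoryTheory.Limits AlgebraicGeometry MonoidalCategory CartesianMonoidalCategory
open MonObj GrpObj Groth.Agent.GrpSchLib.AffineHopf
open scoped TensorProduct

noncomputable section

namespace Groth.Agent.DynX.SS

variable {R : Type u} [CommRing R] {G : Over (Spec (CommRingCat.of R))} [GrpObj G] (c : Chart G)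
  {K : Type u} [Field K] [IsAlgClosed K] [Algebra R K]

/-- A field-valued point of a smooth separated group with connected geometric fibres which fixes all
infinitesimal neighbourhoods of the unit commutes with every point of its fibre. -/
theorem Chart.comm_of_trivial [Smooth G.hom] [IsSeparated G.hom]
    (hconn : ∀ s : Spec (CommRingCat.of R), ConnectedSpace ↥(Red.geomFibre s G).left)
    (g : sp R K ⟶ G) (hg : ∀ n, c.act n g = inR c n) (h : sp R K ⟶ G) : g * h = h * g := by
  let X := sp R K ⊗ G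
  let p : X ⟶ sp R K := fst _ _
  let f₁ : X ⟶ G := snd _ _
  let f₂ : X ⟶ G := (p ≫ g)⁻¹ * f₁ * (p ≫ g)
  suffices key : f₁ = f₂ by
    have e := congrArg (fun r => lift (𝟙 (sp R K)) h ≫ r) key
    simp only [f₁, f₂, p, MonObj.comp_mul, GrpObj.comp_inv, lift_snd, lift_fst_assoc, Category.id_comp] at e
    calc g * h = g * (g⁻¹ * h * g) := by rw [← e]
      _ = h * g := by group
  let x₀ : sp R K ⟶ X := lift (𝟙 _) 1
  have hx1 : x₀ ≫ f₁ = 1 := lift_snd _ _
  have hx2 : x₀ ≫ f₂ = 1 := by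
    simp only [f₂, MonObj.comp_mul, GrpObj.comp_inv, hx1, _root_.mul_one, inv_mul_cancel]
  have hxp : x₀ ≫ p = 𝟙 _ := lift_fst _ _
  let εK : c.B →ₐ[R] K := (Algebra.ofId R K).comp c.ε
  have hεK : spMap εK ≫ c.emb = 1 := by
    rw [← spMap_comp, Category.assoc, c.unit, MonObj.comp_one]
  let pt : ↥(sp R K).left := IsLocalRing.closedPoint K
  let x := x₀.left pt
  let U := c.emb.left.opensRange
  have hmem : ∀ f : X ⟶ G, x₀ ≫ f = 1 → x ∈ f.left ⁻¹ᵁ U := by
    intro f hf
    show f.left (x₀.left pt) ∈ Set.range c.emb.left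
    refine ⟨(spMap εK).left pt, ?_⟩
    rw [← Scheme.Hom.comp_apply, ← Scheme.Hom.comp_apply, ← Over.comp_left, ← Over.comp_left, hεK, hf]
  obtain ⟨W, hW, hxW, hWsub⟩ := exists_isAffineOpen_mem_and_subset (U := f₁.left ⁻¹ᵁ U ⊓ f₂.left ⁻¹ᵁ U) (x := x)
    ⟨hmem f₁ hx1, hmem f₂ hx2⟩
  haveI : Smooth p.left := MorphismProperty.pullback_fst (P := @Smooth) (sp R K).hom G.hom inferInstance
  haveI : AlgebraicGeometry.IsReduced X.left :=
    @GrpSchLib.isReduced_of_smooth_field K _ X.left p.left ‹Smooth p.left›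
  haveI : IrreducibleSpace ↥X.left := by
    haveI : IrreducibleSpace ↥(pullback G.hom (sp R K).hom) := irreducible_geom_fibre hconn (sp R K).hom
    exact (pullbackSymmetry (sp R K).hom G.hom).hom.homeomorph.irreducibleSpace_iff.mpr inferInstance
  haveI : IsIntegral X.left := isIntegral_of_irreducibleSpace_of_isReduced X.left
  haveI : IsLocallyNoetherian (sp R K).left := inferInstanceAs (IsLocallyNoetherian (Spec (CommRingCat.of K)))
  haveI : IsLocallyNoetherian X.left :=
    LocallyOfFiniteType.isLocallyNoetherian p.left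
  let W' : Over (Spec (CommRingCat.of R)) := Over.mk (W.ι ≫ X.hom)
  haveI : IsAffine W'.left := hW
  let A := Γ(W'.left, ⊤)
  haveI hne : Nonempty ↥W := ⟨⟨x, hxW⟩⟩
  haveI : Nonempty ↥W'.left := hne
  haveI : IsIntegral W'.left := isIntegral_of_isOpenImmersion W.ι
  haveI : IsDomain A := inferInstance
  haveI : IsNoetherianRing A := by
    haveI : IsLocallyNoetherian W'.left := inferInstanceAs (IsLocallyNoetherian W.toScheme)
    exact IsLocallyNoetherian.component_noetherian (X := W'.left) ⟨⊤, isAffineOpen_top _⟩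
  let w : W' ⟶ X := Over.homMk W.ι rfl
  let e : sp R A ⟶ X := (spIsoSelf W').hom ≫ w
  have hrange : ∀ f : X ⟶ G, W ≤ f.left ⁻¹ᵁ U → Set.range (e ≫ f).left ⊆ Set.range c.emb.left := by
    rintro f hf _ ⟨q, rfl⟩
    rw [Over.comp_left, Over.comp_left, Scheme.Hom.comp_apply, Scheme.Hom.comp_apply]
    exact hf (Scheme.Opens.range_ι W ▸ Set.mem_range_self _ : W.ι _ ∈ (W : Set _))
  have hlift : ∀ f : X ⟶ G, W ≤ f.left ⁻¹ᵁ U → ∃ α : c.B →ₐ[R] A, spMap α ≫ c.emb = e ≫ f := by
    intro f hf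
    let l : sp R A ⟶ sp R c.B := Over.homMk (IsOpenImmersion.lift c.emb.left (e ≫ f).left (hrange f hf))
      (by rw [← Over.w c.emb, IsOpenImmersion.lift_fac_assoc]; exact Over.w _)
    obtain ⟨α, hα⟩ := exists_spMap l
    exact ⟨α, by rw [← hα]; exact Over.OverMorphism.ext (IsOpenImmersion.lift_fac _ _ _)⟩
  obtain ⟨α₁, hα₁⟩ := hlift f₁ fun z hz => (hWsub hz).1
  obtain ⟨α₂, hα₂⟩ := hlift f₂ fun z hz => (hWsub hz).2
  obtain ⟨ιA, hιA⟩ := exists_spMap (e ≫ p)
  obtain ⟨κ, hκ⟩ : ∃ κ : A →ₐ[R] K, spMap κ ≫ e = x₀ := by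
    have hr : Set.range x₀.left ⊆ Set.range W.ι := by
      rintro _ ⟨q, rfl⟩
      rw [Scheme.Opens.range_ι, show q = pt from @Subsingleton.elim (PrimeSpectrum K) _ _ _]
      exact hxW
    let l : sp R K ⟶ W' := Over.homMk (IsOpenImmersion.lift W.ι x₀.left hr)
      (by show _ ≫ W.ι ≫ X.hom = _; rw [IsOpenImmersion.lift_fac_assoc]; exact Over.w _)
    obtain ⟨κ, hκ⟩ := exists_spMap (l ≫ (spIsoSelf W').inv)
    refine ⟨κ, ?_⟩
    rw [← hκ, Category.assoc, Iso.inv_hom_id_assoc]
    exact Over.OverMorphism.ext (IsOpenImmersion.lift_fac _ _ _)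
  haveI := c.mono_emb
  have hκι : κ.comp ιA = AlgHom.id R K := by
    refine spMap_inj ?_
    rw [← spMap_comp, ← hιA, ← Category.assoc, hκ, hxp, spMap_id]
  have hκs : Function.Surjective κ := fun y => ⟨ιA y, AlgHom.congr_fun hκι y⟩
  have hκα : ∀ (f : X ⟶ G) (α : c.B →ₐ[R] A), spMap α ≫ c.emb = e ≫ f → x₀ ≫ f = 1 → κ.comp α = εK := by
    intro f α hα hf
    refine spMap_inj ?_
    rw [← cancel_mono c.emb, ← spMap_comp, Category.assoc, hα, ← Category.assoc, hκ, hf, hεK]
  let m : Ideal A := RingHom.ker κ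
  have hm : m ≠ ⊤ := RingHom.ker_ne_top _
  have hstep : ∀ n b, α₁ b - α₂ b ∈ m ^ (n + 1) := by
    intro n b
    let q : A →ₐ[R] A ⧸ m ^ (n + 1) := Ideal.Quotient.mkₐ R _
    have hkill : ∀ y ∈ c.I ^ (n + 1), q.comp α₁ y = 0 := by
      intro y hy
      refine Ideal.Quotient.eq_zero_iff_mem.mpr ?_
      have h1 : c.I ≤ m.comap α₁ := fun z hz => by
        show κ (α₁ z) = 0
        rw [← AlgHom.comp_apply, hκα f₁ α₁ hα₁ hx1, AlgHom.comp_apply, show c.ε z = 0 from hz, map_zero]
      exact (Ideal.pow_right_mono h1 (n + 1)).trans (Ideal.le_comap_pow α₁ (n + 1)) hy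
    let β : c.P n →ₐ[R] A ⧸ m ^ (n + 1) := Ideal.Quotient.liftₐ (c.I ^ (n + 1)) (q.comp α₁) hkill
    let Θ : K ⊗[R] c.P n →ₐ[R] A ⧸ m ^ (n + 1) :=
      Algebra.TensorProduct.lift (q.comp ιA) β fun _ _ => Commute.all _ _
    have hΘL : Θ.comp (inL c n) = q.comp ιA := Algebra.TensorProduct.lift_comp_includeLeft _ _ _
    have hΘR : Θ.comp (inR c n) = β := Algebra.TensorProduct.lift_comp_includeRight' _ _ _
    have hβ : spMap β ≫ c.jP n = spMap q ≫ e ≫ f₁ := by
      rw [Chart.jP, ← Category.assoc, spMap_comp,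
        show β.comp (Ideal.Quotient.mkₐ R (c.I ^ (n + 1))) = q.comp α₁ from AlgHom.ext fun _ => rfl,
        ← spMap_comp, Category.assoc, hα₁]
    have hg' : spMap (q.comp ιA) ≫ g = spMap q ≫ e ≫ p ≫ g := by
      rw [← spMap_comp, ← hιA]; simp only [Category.assoc]
    have h1 : spMap Θ ≫ c.cg n g = spMap q ≫ e ≫ f₁ := by
      rw [← (c.act_eq_iff n g _).mp (hg n), ← Category.assoc, spMap_comp, hΘR, hβ]
    have h2 : spMap Θ ≫ c.cg n g = spMap q ≫ e ≫ f₂ := by
      rw [Chart.cg, MonObj.comp_mul, MonObj.comp_mul, GrpObj.comp_inv, ← Category.assoc, ← Category.assoc,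
        spMap_comp, spMap_comp, hΘL, hΘR, hβ, hg']
      simp only [f₂, MonObj.comp_mul, GrpObj.comp_inv]
    have h3 : q.comp α₁ = q.comp α₂ := by
      refine spMap_inj ?_
      rw [← cancel_mono c.emb, ← spMap_comp, ← spMap_comp, Category.assoc, Category.assoc, hα₁, hα₂, ← h1, h2]
    exact Ideal.Quotient.eq.mp (AlgHom.congr_fun h3 b)
  have hα : α₁ = α₂ := AlgHom.ext fun b => sub_eq_zero.mp <| by
    have : α₁ b - α₂ b ∈ ⨅ i : ℕ, m ^ i := by
      refine (Submodule.mem_iInf _).mpr fun i => ?_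
      exact Ideal.pow_le_pow_right (Nat.le_succ i) (hstep i b)
    rwa [Ideal.iInf_pow_eq_bot_of_isDomain m hm, Ideal.mem_bot] at this
  have hew : e ≫ f₁ = e ≫ f₂ := by rw [← hα₁, ← hα₂, hα]
  have hw : w ≫ f₁ = w ≫ f₂ := by
    rw [← cancel_epi (spIsoSelf W').hom]
    simpa [e] using hew
  haveI : IsDominant W.ι := by
    constructor
    show Dense (Set.range W.ι)
    rw [Scheme.Opens.range_ι]
    exact W.2.dense ⟨x, hxW⟩
  ext1
  exact ext_of_isDominant_of_isSeparated G.hom ((Over.w f₁).trans (Over.w f₂).symm) W.ι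
    (congrArg CommaMorphism.left hw)

end Groth.Agent.DynX.SS
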