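import Groth.Agent.DynX.SS.AdjAct
import Groth.Agent.GrpSchLib.GLnDiag
import Mathlib.LinearAlgebra.Matrix.ToLin
import Mathlib.RingTheory.TensorProduct.Free
import Mathlib.LinearAlgebra.TensorProduct.Tower
import Groth.Prelude.Def_FrameBundle

/-!
# The adjoint representations on the infinitesimal neighbourhoods of the unit section

The functions on a neighbourhood are a direct factor of a free module, so the conjugation is given by invertible
matrices, whence a homomorphism to a general linear group; it is trivial on the points acting trivially only.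
-/

set_option autoImplicit false
set_option linter.style.haveILetI false

universe u

open CategoryTheory CategoryTheory.Limits AlgebraicGeometry MonoidalCategory CartesianMonoidalCategory
open MonObj GrpObj Groth.Agent.GrpSchLib.AffineHopf
open scoped TensorProduct

noncomputable section

namespace Groth.Agent.DynX.SS

variable {R : Type u} [CommRing R] {G : Over (Spec (CommRingCat.of R))} [GrpObj G] (c : Chart G) (n : ℕ)

/-- A presentation of the neighbourhood as a direct factor of a free module. -/
structure Pres where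
  N : ℕ
  s : c.P n →ₗ[R] (Fin N → R)
  r : (Fin N → R) →ₗ[R] c.P n
  rs : r.comp s = LinearMap.id

theorem nonempty_pres : Nonempty (Pres c n) := by
  obtain ⟨hf, hp⟩ := finite_projective_quotient_pow c.ε n
  haveI : Module.Finite R (c.P n) := hf
  haveI : Module.Projective R (c.P n) := hp
  obtain ⟨N, r, hr⟩ := Module.Finite.exists_fin' R (c.P n)
  obtain ⟨s, hs⟩ := Module.projective_lifting_property r LinearMap.id hr
  exact ⟨⟨N, s, r, hs⟩⟩

variable {c n} (p : Pres c n) {C : Type u} [CommRing C] [Algebra R C]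

/-- The extended section. -/
abbrev Pres.sC : C ⊗[R] c.P n →ₗ[C] C ⊗[R] (Fin p.N → R) := p.s.baseChange C

/-- The extended retraction. -/
abbrev Pres.rC : C ⊗[R] (Fin p.N → R) →ₗ[C] C ⊗[R] c.P n := p.r.baseChange C

theorem Pres.rC_sC (x : C ⊗[R] c.P n) : p.rC (p.sC x) = x := by
  induction x using TensorProduct.induction_on with
  | zero => simp
  | add a b ha hb => rw [map_add, map_add, ha, hb]
  | tmul a y => simp [Pres.rC, Pres.sC, show p.r (p.s y) = y from LinearMap.congr_fun p.rs y]

/-- The endomorphism of the free module given by a point. -/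
def Pres.endo (g : sp R C ⟶ G) : Module.End C (C ⊗[R] (Fin p.N → R)) :=
  p.sC ∘ₗ (c.actE n g).toLinearMap ∘ₗ p.rC + (LinearMap.id - p.sC ∘ₗ p.rC)

theorem Pres.endo_apply (g : sp R C ⟶ G) (x : C ⊗[R] (Fin p.N → R)) :
    p.endo g x = p.sC (c.actE n g (p.rC x)) + (x - p.sC (p.rC x)) := rfl

theorem Pres.endo_mul (g h : sp R C ⟶ G) : p.endo (g * h) = p.endo g * p.endo h := by
  refine LinearMap.ext fun x => ?_
  rw [Module.End.mul_apply, p.endo_apply, p.endo_apply g, p.endo_apply h, c.actE_mul, AlgHom.comp_apply]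
  simp only [map_add, map_sub, p.rC_sC, sub_self, _root_.add_zero]
  abel

theorem Pres.endo_one : p.endo (1 : sp R C ⟶ G) = 1 := by
  refine LinearMap.ext fun x => ?_
  rw [p.endo_apply, c.actE_one, Module.End.one_apply, AlgHom.id_apply]
  abel

theorem Pres.endo_eq_one_iff (g : sp R C ⟶ G) : p.endo g = 1 ↔ c.act n g = inR c n := by
  rw [← c.actE_eq_id_iff]
  constructor
  · intro h
    refine AlgHom.ext fun y => ?_
    have h1 := congrArg p.rC (LinearMap.congr_fun h (p.sC y))
    rw [p.endo_apply, Module.End.one_apply] at h1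
    simp only [map_add, map_sub, p.rC_sC, sub_self, _root_.add_zero] at h1
    exact h1
  · intro h
    refine LinearMap.ext fun x => ?_
    rw [p.endo_apply, h, Module.End.one_apply, AlgHom.id_apply]
    abel

/-- The basis of the free module. -/
abbrev Pres.basis (C : Type u) [CommRing C] [Algebra R C] : Module.Basis (Fin p.N) C (C ⊗[R] (Fin p.N → R)) :=
  Algebra.TensorProduct.basis C (Pi.basisFun R (Fin p.N))

/-- The matrix of a point. -/
def Pres.mat (g : sp R C ⟶ G) : Matrix (Fin p.N) (Fin p.N) C := LinearMap.toMatrix (p.basis C) (p.basis C) (p.endo g)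

theorem Pres.mat_mul (g h : sp R C ⟶ G) : p.mat (g * h) = p.mat g * p.mat h := by
  rw [Pres.mat, Pres.mat, Pres.mat, p.endo_mul, LinearMap.toMatrix_mul]

theorem Pres.mat_one : p.mat (1 : sp R C ⟶ G) = 1 := by
  rw [Pres.mat, p.endo_one, LinearMap.toMatrix_one]

theorem Pres.mat_eq_one_iff (g : sp R C ⟶ G) : p.mat g = 1 ↔ c.act n g = inR c n := by
  rw [← p.endo_eq_one_iff, Pres.mat, ← LinearMap.toMatrix_one (p.basis C),
    EmbeddingLike.apply_eq_iff_eq]

theorem Pres.isUnit_mat (g : sp R C ⟶ G) : IsUnit (p.mat g) :=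
  IsUnit.of_mul_eq_one (p.mat g⁻¹) (by rw [← p.mat_mul, mul_inv_cancel, p.mat_one])

variable {C' : Type u} [CommRing C'] [Algebra R C'] (φ : C →ₐ[R] C')

/-- The change of coefficients of a module. -/
abbrev chg (M : Type u) [AddCommGroup M] [Module R M] : C ⊗[R] M →ₗ[R] C' ⊗[R] M :=
  TensorProduct.map φ.toLinearMap LinearMap.id

theorem Pres.endo_natural (g : sp R C ⟶ G) (x : C ⊗[R] (Fin p.N → R)) :
    p.endo (spMap φ ≫ g) (chg φ _ x) = chg φ _ (p.endo g x) := by
  have hs : ∀ y : C ⊗[R] c.P n, p.sC (chg φ _ y) = chg φ _ (p.sC y) := fun y => by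
    induction y using TensorProduct.induction_on with
    | zero => simp
    | add a b ha hb => simp only [map_add, ha, hb]
    | tmul a b => simp [Pres.sC, chg]
  have hr : ∀ y : C ⊗[R] (Fin p.N → R), p.rC (chg φ _ y) = chg φ _ (p.rC y) := fun y => by
    induction y using TensorProduct.induction_on with
    | zero => simp
    | add a b ha hb => simp only [map_add, ha, hb]
    | tmul a b => simp [Pres.rC, chg]
  have hcoef : ∀ y, chg φ _ y = c.coef n φ y := fun y => by
    induction y using TensorProduct.induction_on with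
    | zero => simp
    | add a b ha hb => simp only [map_add, ha, hb]
    | tmul a b => simp [chg]
  have ha : ∀ y, c.actE n (spMap φ ≫ g) (chg φ _ y) = chg φ _ (c.actE n g y) := fun y => by
    induction y using TensorProduct.induction_on with
    | zero => simp
    | add a b ha hb => simp only [map_add, ha, hb]
    | tmul a b =>
      have e : c.act n (spMap φ ≫ g) b = c.coef n φ (c.act n g b) := AlgHom.congr_fun (c.act_natural n φ g) b
      simp only [hcoef, Chart.actE, Algebra.TensorProduct.lift_tmul, Algebra.TensorProduct.map_tmul, AlgHom.id_apply,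
        Algebra.ofId_apply, e, map_mul]
      congr 1
  rw [p.endo_apply, p.endo_apply, hr, ha, hs, hs]
  simp only [map_add, map_sub]

theorem Pres.mat_natural (g : sp R C ⟶ G) : p.mat (spMap φ ≫ g) = (p.mat g).map φ := by
  refine Matrix.ext fun i j => ?_
  rw [Pres.mat, LinearMap.toMatrix_apply, Matrix.map_apply, Pres.mat, LinearMap.toMatrix_apply]
  have hb : p.basis C' j = chg φ _ (p.basis C j) := by simp [Pres.basis, chg]
  have hrepr : ∀ y : C ⊗[R] (Fin p.N → R), (p.basis C').repr (chg φ _ y) i = φ ((p.basis C).repr y i) := fun y => by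
    induction y using TensorProduct.induction_on with
    | zero => simp
    | add a b ha hb => simp only [map_add, Finsupp.add_apply, ha, hb]
    | tmul a b => simp [Pres.basis, chg, Algebra.TensorProduct.basis_repr_tmul]
  rw [hb, p.endo_natural, hrepr]

/-- The general linear group over `R`. -/
abbrev GLR (R : Type u) [CommRing R] (N : ℕ) : Over (Spec (CommRingCat.of R)) := sp R (CoordGrp.GLn N R)

/-- The point of the general linear group given by a point of the group. -/
def Pres.pt (g : sp R C ⟶ G) : sp R C ⟶ GLR R p.N :=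
  spMap (GrpSchLib.GLnDiag.exists_pt (k := R) (p.mat g) (p.isUnit_mat g)).choose

theorem Pres.mat_pt (g : sp R C ⟶ G) :
    GrpSchLib.GLnDiag.mat (GrpSchLib.GLnDiag.exists_pt (k := R) (p.mat g) (p.isUnit_mat g)).choose = p.mat g :=
  (GrpSchLib.GLnDiag.exists_pt (k := R) (p.mat g) (p.isUnit_mat g)).choose_spec

theorem Pres.pt_natural (g : sp R C ⟶ G) : p.pt (spMap φ ≫ g) = spMap φ ≫ p.pt g := by
  rw [Pres.pt, Pres.pt, spMap_comp]
  refine congrArg spMap (GrpSchLib.GLnDiag.ext_mat ?_)
  rw [p.mat_pt, GrpSchLib.GLnDiag.mat_comp, p.mat_pt, p.mat_natural]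

theorem Pres.pt_mul (g h : sp R C ⟶ G) : p.pt (g * h) = p.pt g * p.pt h := by
  rw [Pres.pt, Pres.pt, Pres.pt, spMap_mul]
  refine congrArg spMap (GrpSchLib.GLnDiag.ext_mat ?_)
  rw [GrpSchLib.GLnDiag.mat_mul, p.mat_pt, WithConv.ofConv_toConv, WithConv.ofConv_toConv, p.mat_pt, p.mat_pt,
    p.mat_mul]

theorem Pres.pt_eq_one_iff (g : sp R C ⟶ G) : p.pt g = 1 ↔ c.act n g = inR c n := by
  have h1 : (1 : sp R C ⟶ GLR R p.N) = p.pt 1 := by
    have := p.pt_mul (1 : sp R C ⟶ G) 1
    rw [_root_.one_mul] at this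
    exact (left_eq_mul.mp this).symm
  rw [h1, ← p.mat_eq_one_iff]
  constructor
  · intro h
    rw [← p.mat_pt g, spMap_inj h, p.mat_pt, p.mat_one]
  · intro h
    exact congrArg spMap (GrpSchLib.GLnDiag.ext_mat (by rw [p.mat_pt, p.mat_pt, h, p.mat_one]))

/-- The adjoint representation on a neighbourhood is a homomorphism to a general linear group. -/
theorem Pres.exists_hom : ∃ f : G ⟶ GLR R p.N, IsMonHom f ∧
    ∀ (C : Type u) [CommRing C] [Algebra R C] (g : sp R C ⟶ G), g ≫ f = 1 ↔ c.act n g = inR c n := by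
  obtain ⟨f, hf⟩ := exists_hom_of_natural (fun C _ _ g => p.pt (C := C) g) fun C C' _ _ _ _ φ g => p.pt_natural φ g
  refine ⟨f, ?_, fun C _ _ g => by rw [hf, p.pt_eq_one_iff]⟩
  have hext : ∀ {X : Over (Spec (CommRingCat.of R))} (a b : X ⟶ GLR R p.N),
      (∀ (C : Type u) [CommRing C] [Algebra R C] (x : sp R C ⟶ X), x ≫ a = x ≫ b) → a = b := by
    intro X a b h
    ext1
    refine X.left.affineCover.hom_ext _ _ fun i => ?_
    let T : Over (Spec (CommRingCat.of R)) := Over.mk (X.left.affineCover.f i ≫ X.hom)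
    haveI : IsAffine T.left := inferInstanceAs (IsAffine (X.left.affineCover.X i))
    let t : T ⟶ X := Over.homMk (X.left.affineCover.f i) rfl
    have h1 := h _ ((spIsoSelf T).hom ≫ t)
    rw [Category.assoc, Category.assoc, cancel_epi] at h1
    exact congrArg CommaMorphism.left h1
  constructor
  · refine hext _ _ fun C _ _ x => ?_
    rw [← Category.assoc, hf, show x ≫ η[G] = (1 : sp R C ⟶ G) by
      rw [show x = toUnit _ from toUnit_unique _ _]; rfl, show x ≫ η[GLR R p.N] = (1 : sp R C ⟶ GLR R p.N) by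
      rw [show x = toUnit _ from toUnit_unique _ _]; rfl]
    exact (p.pt_eq_one_iff (C := C) 1).mpr (c.act_one n)
  · refine hext _ _ fun C _ _ x => ?_
    have e : μ[G] = fst G G * snd G G := by rw [Hom.mul_def, lift_fst_snd, Category.id_comp]
    have e' : (f ⊗ₘ f) ≫ μ[GLR R p.N] = (fst G G ≫ f) * (snd G G ≫ f) := by
      rw [Hom.mul_def, lift_fst_comp_snd_comp]
    rw [e', e, MonObj.comp_mul, ← Category.assoc x (fst G G) f, ← Category.assoc x (snd G G) f, ← Category.assoc,
      MonObj.comp_mul, hf, hf, hf, p.pt_mul]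

end Groth.Agent.DynX.SS
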