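import Groth.Agent.DynX.SS.Faithful
import Groth.Agent.S2993

/-!
# Affineness of groups with semisimple fibres over a base of dimension at most one

The statement is local on the base.  Locally the unit section lies in an affine open, the adjoint representation on a
large neighbourhood of the unit is quasi-finite, and a quasi-finite separated homomorphism from a smooth group is
affine in dimension at most one.
-/

set_option autoImplicit false
set_option linter.style.haveILetI false

universe u

open CategoryTheory CategoryTheory.Limits AlgebraicGeometry MonoidalCategory CartesianMonoidalCategory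
open MonObj GrpObj Groth.Agent.GrpSchLib.AffineHopf

noncomputable section

namespace Groth.Agent.DynX.SS

/-- An affine open containing the unit section gives a chart. -/
theorem nonempty_chart {R : Type u} [CommRing R] (G : Over (Spec (CommRingCat.of R))) [GrpObj G] [Smooth G.hom]
    (W : G.left.Opens) (hW : IsAffineOpen W) (hunit : Set.range η[G].left ⊆ (W : Set _)) :
    Nonempty (Chart G) := by
  let W' : Over (Spec (CommRingCat.of R)) := Over.mk (W.ι ≫ G.hom)
  haveI : IsAffine W'.left := hW
  let w : W' ⟶ G := Over.homMk W.ι rfl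
  let B := Γ(W'.left, ⊤)
  let emb : sp R B ⟶ G := (spIsoSelf W').hom ≫ w
  haveI : IsOpenImmersion emb.left := inferInstanceAs (IsOpenImmersion ((spIsoSelf W').hom.left ≫ W.ι))
  have hr : Set.range (1 : sp R R ⟶ G).left ⊆ Set.range W.ι := by
    rw [Scheme.Opens.range_ι]
    rintro _ ⟨q, rfl⟩
    refine hunit ⟨(toUnit (sp R R)).left q, ?_⟩
    rw [Hom.one_def, Over.comp_left, Scheme.Hom.comp_apply]
  let l : sp R R ⟶ W' := Over.homMk (IsOpenImmersion.lift W.ι (1 : sp R R ⟶ G).left hr)
    (by show _ ≫ W.ι ≫ G.hom = _; rw [IsOpenImmersion.lift_fac_assoc]; exact Over.w _)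
  obtain ⟨ε, hε⟩ := exists_spMap (l ≫ (spIsoSelf W').inv)
  have hunit' : spMap ε ≫ emb = 1 := by
    rw [← hε, Category.assoc, Iso.inv_hom_id_assoc]
    exact Over.OverMorphism.ext (IsOpenImmersion.lift_fac _ _ _)
  haveI hsm : Smooth (Spec.map (CommRingCat.ofHom (algebraMap R B))) := by
    show Smooth (sp R B).hom
    rw [← Over.w emb]
    infer_instance
  haveI : Algebra.Smooth R B := RingHom.smooth_algebraMap.mp ((HasRingHomProperty.Spec_iff (P := @Smooth)).mp hsm)
  haveI : Algebra.FinitePresentation R B := Algebra.Smooth.finitePresentation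
  haveI : Algebra.FormallySmooth R B := Algebra.Smooth.formallySmooth
  exact ⟨{ B := B, emb := emb, ε := ε, unit := hunit' }⟩

section Fibre

variable {S : Scheme.{u}} (G : Over S) [GrpObj G]

/-- Geometric fibres of a base change are connected. -/
theorem connected_geomFibre_pullback [LocallyOfFiniteType G.hom]
    (hconn : ∀ s : S, ConnectedSpace ↥(Red.geomFibre s G).left) {T : Scheme.{u}} (j : T ⟶ S) (t : T) :
    ConnectedSpace ↥(Red.geomFibre t ((Over.pullback j).obj G)).left := by
  haveI : IrreducibleSpace ↥(pullback G.hom (Red.geomPt t ≫ j)) := irreducible_geom_fibre hconn _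
  haveI : IrreducibleSpace ↥(pullback (pullback.snd G.hom j) (Red.geomPt t)) :=
    (pullbackLeftPullbackSndIso G.hom j (Red.geomPt t)).hom.homeomorph.irreducibleSpace_iff.mpr inferInstance
  exact inferInstanceAs (ConnectedSpace ↥(pullback (pullback.snd G.hom j) (Red.geomPt t)))

/-- The group of points of a fibre is that of the base change with the same field. -/
theorem finite_center_pullback {T : Scheme.{u}} (j : T ⟶ S) {K : Type u} [Field K]
    (b : Spec (CommRingCat.of K) ⟶ T) (b' : Spec (CommRingCat.of K) ⟶ S) (hb : b ≫ j = b')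
    (h : ((Subgroup.center (VecGrp.pt K K ⟶ (Over.pullback b').obj G) : Subgroup _) :
      Set (VecGrp.pt K K ⟶ (Over.pullback b').obj G)).Finite) :
    ((Subgroup.center (VecGrp.pt K K ⟶ (Over.pullback b).obj ((Over.pullback j).obj G)) : Subgroup _) :
      Set (VecGrp.pt K K ⟶ (Over.pullback b).obj ((Over.pullback j).obj G))).Finite := by
  subst hb
  let P := VecGrp.pt K K
  let e : (Over.map (b ≫ j)).obj P ≅ (Over.map j).obj ((Over.map b).obj P) :=
    Over.isoMk (Iso.refl _) (by
      show 𝟙 _ ≫ (P.hom ≫ b) ≫ j = P.hom ≫ b ≫ j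
      rw [Category.id_comp, Category.assoc])
  let Φ : (P ⟶ (Over.pullback b).obj ((Over.pullback j).obj G)) → ((Over.map (b ≫ j)).obj P ⟶ G) := fun a =>
    e.hom ≫ DSPtsLib.theta j (DSPtsLib.theta b a)
  let Ψ : (P ⟶ (Over.pullback (b ≫ j)).obj G) → ((Over.map (b ≫ j)).obj P ⟶ G) := DSPtsLib.theta (b ≫ j)
  have hΦb : Function.Bijective Φ := by
    refine Function.Bijective.comp ?_ ((DSPtsLib.theta_bijective j).comp (DSPtsLib.theta_bijective b))
    exact ⟨fun x y hxy => (cancel_epi e.hom).mp hxy, fun x => ⟨e.inv ≫ x, e.hom_inv_id_assoc x⟩⟩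
  have hΦm : ∀ x y, Φ (x * y) = Φ x * Φ y := fun x y => by
    simp only [Φ, DSPtsLib.theta_mul, MonObj.comp_mul]
  choose inv hinv using (DSPtsLib.theta_bijective (Y := P) (H := G) (b ≫ j)).2
  refine ((h.image Ψ).preimage hΦb.1.injOn).subset ?_
  intro a ha
  refine ⟨inv (Φ a), ?_, hinv _⟩
  refine Subgroup.mem_center_iff.mpr fun d => (DSPtsLib.theta_bijective (b ≫ j)).1 ?_
  obtain ⟨d', hd'⟩ := hΦb.2 (DSPtsLib.theta (b ≫ j) d)
  rw [DSPtsLib.theta_mul, DSPtsLib.theta_mul, hinv, ← hd', ← hΦm, ← hΦm]
  exact congrArg Φ (Subgroup.mem_center_iff.mp ha d')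

end Fibre

/-- A smooth quasi-compact group over a locally noetherian base of dimension at most one is affine when its geometric
fibres are connected with finite centre. -/
theorem isAffineHom_of_finite_centre {S : Scheme.{u}} [IsLocallyNoetherian S] (hS : topologicalKrullDim S ≤ 1)
    (G : Over S) [GrpObj G] [Smooth G.hom] [QuasiCompact G.hom]
    (hconn : ∀ s : S, ConnectedSpace ↥(Red.geomFibre s G).left)
    (hcen : ∀ s : S, ((Subgroup.center (VecGrp.pt (AlgebraicClosure (S.residueField s))
      (AlgebraicClosure (S.residueField s)) ⟶ Red.geomFibre s G) : Subgroup _) : Set (VecGrp.pt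
      (AlgebraicClosure (S.residueField s)) (AlgebraicClosure (S.residueField s)) ⟶ Red.geomFibre s G)).Finite) :
    IsAffineHom G.hom := by
  haveI : IsLocallyNoetherian G.left := LocallyOfFiniteType.isLocallyNoetherian G.hom
  haveI : QuasiSeparated G.hom := inferInstance
  haveI : IsSeparated G.hom := isSeparated hconn
  let e : S → G.left := fun s => η[G].left s
  have hloc : ∀ s : S, ∃ V : S.Opens, IsAffineOpen V ∧ s ∈ V ∧ ∃ W : G.left.Opens, IsAffineOpen W ∧
      W ≤ G.hom ⁻¹ᵁ V ∧ ∀ t ∈ V, e t ∈ W := by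
    intro s
    have hes : ∀ t, G.hom (e t) = t := fun t => by
      show (η[G].left ≫ G.hom) t = t
      rw [Over.w η[G]]
      rfl
    obtain ⟨V₀, hV₀, hsV₀, -⟩ := exists_isAffineOpen_mem_and_subset (U := (⊤ : S.Opens)) (x := s) trivial
    obtain ⟨U, hU, hsU, hUV₀⟩ := exists_isAffineOpen_mem_and_subset (U := G.hom ⁻¹ᵁ V₀) (x := e s)
      (show G.hom (e s) ∈ V₀ from (hes s).symm ▸ hsV₀)
    obtain ⟨r, hr, hsr⟩ := hV₀.exists_basicOpen_le (V := V₀ ⊓ η[G].left ⁻¹ᵁ U) ⟨s, hsV₀, hsU⟩ hsV₀
    refine ⟨S.basicOpen r, hV₀.basicOpen r, hsr,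
      G.left.basicOpen (G.left.presheaf.map (homOfLE hUV₀).op (G.hom.app V₀ r)), hU.basicOpen _, ?_, ?_⟩
    · rw [Scheme.basicOpen_res, ← Scheme.preimage_basicOpen]
      exact inf_le_right
    · intro t ht
      rw [Scheme.basicOpen_res, ← Scheme.preimage_basicOpen]
      refine ⟨(hr ht).2, ?_⟩
      show G.hom (e t) ∈ S.basicOpen r
      rw [hes t]
      exact ht
  choose V hV hsV W hW hWV hWe using hloc
  refine IsZariskiLocalAtTarget.of_iSup_eq_top (P := @IsAffineHom) V
    (top_le_iff.mp fun s _ => TopologicalSpace.Opens.mem_iSup.mpr ⟨s, hsV s⟩) fun s => ?_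
  let R := Γ(S, V s)
  let j : Spec (CommRingCat.of R) ⟶ S := (hV s).fromSpec
  haveI : IsOpenImmersion j := inferInstanceAs (IsOpenImmersion (hV s).fromSpec)
  haveI : IsNoetherianRing R := IsLocallyNoetherian.component_noetherian ⟨V s, hV s⟩
  let GR := (Over.pullback j).obj G
  haveI : Smooth GR.hom := inferInstanceAs (Smooth (pullback.snd G.hom j))
  haveI : QuasiCompact GR.hom := inferInstanceAs (QuasiCompact (pullback.snd G.hom j))
  haveI : IsSeparated GR.hom := inferInstanceAs (IsSeparated (pullback.snd G.hom j))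
  suffices hGR : IsAffineHom GR.hom by
    have h1 : IsAffineHom (G.hom ∣_ j.opensRange) :=
      (MorphismProperty.arrow_mk_iso_iff @IsAffineHom (morphismRestrictOpensRange G.hom j)).mpr hGR
    rwa [show j.opensRange = V s from (hV s).opensRange_fromSpec] at h1
  let p : GR.left ⟶ G.left := pullback.fst G.hom j
  haveI : IsOpenImmersion p := inferInstanceAs (IsOpenImmersion (pullback.fst G.hom j))
  have hp : W s ≤ p.opensRange := by
    intro z hz
    show z ∈ Set.range (pullback.fst G.hom j)
    rw [IsOpenImmersion.range_pullbackFst, show j.opensRange = V s from (hV s).opensRange_fromSpec]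
    exact hWV s hz
  have hunit : Set.range η[GR].left ⊆ ((p ⁻¹ᵁ W s : GR.left.Opens) : Set _) := by
    rintro _ ⟨q, rfl⟩
    show (η[GR].left ≫ p) q ∈ W s
    have h1 : η[GR].left ≫ p = j ≫ η[G].left := by
      have h2 : DSPtsLib.theta j (1 : 𝟙_ (Over (Spec (CommRingCat.of R))) ⟶ GR) = 1 := by
        have := DSPtsLib.theta_mul (H := G) j (1 : 𝟙_ (Over (Spec (CommRingCat.of R))) ⟶ GR) 1
        rw [_root_.one_mul] at this
        exact left_eq_mul.mp this
      have h3 : (1 : 𝟙_ (Over (Spec (CommRingCat.of R))) ⟶ GR).left ≫ p =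
          (1 : (Over.map j).obj (𝟙_ (Over (Spec (CommRingCat.of R)))) ⟶ G).left :=
        (DSPtsLib.theta_left j _).symm.trans (congrArg CommaMorphism.left h2)
      rw [show η[GR] = (1 : 𝟙_ (Over (Spec (CommRingCat.of R))) ⟶ GR) by
        rw [Hom.one_def, toUnit_unit, Category.id_comp]]
      refine h3.trans ?_
      rw [Hom.one_def, Over.comp_left]
      congr 1
    rw [h1, Scheme.Hom.comp_apply]
    exact hWe s _ ((hV s).range_fromSpec ▸ Set.mem_range_self q : (j q) ∈ ((V s : S.Opens) : Set _))
  obtain ⟨c⟩ := nonempty_chart GR _ ((hW s).preimage_of_isOpenImmersion p hp) hunit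
  have hcenR : ∀ t : Spec (CommRingCat.of R), ∃ (K : Type u) (_ : Field K) (_ : IsAlgClosed K)
      (b : Spec (CommRingCat.of K) ⟶ Spec (CommRingCat.of R)), b (IsLocalRing.closedPoint K) = t ∧
      ((Subgroup.center (VecGrp.pt K K ⟶ (Over.pullback b).obj GR) : Subgroup _) :
        Set (VecGrp.pt K K ⟶ (Over.pullback b).obj GR)).Finite := by
    intro t
    let b' := Red.geomPt (j t)
    have hb' : ∀ q, b' q = j t := fun q => by
      show S.fromSpecResidueField (j t) _ = j t
      exact Scheme.fromSpecResidueField_apply _ _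
    have hr : Set.range b' ⊆ Set.range j := by
      rintro _ ⟨q, rfl⟩
      exact ⟨t, (hb' q).symm⟩
    refine ⟨_, inferInstance, inferInstance, IsOpenImmersion.lift j b' hr, ?_,
      finite_center_pullback G j _ b' (IsOpenImmersion.lift_fac _ _ _) (hcen (j t))⟩
    refine j.isOpenEmbedding.injective ?_
    rw [← Scheme.Hom.comp_apply, IsOpenImmersion.lift_fac, hb']
  obtain ⟨N, f, hf, hqf⟩ := exists_quasiFinite_hom c (connected_geomFibre_pullback G hconn j) hcenR
  haveI := locallyOfFiniteType_GLR R N
  haveI : QuasiCompact (GLR R N).hom := inferInstance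
  haveI : QuasiCompact f.left := by
    have : QuasiCompact (f.left ≫ (GLR R N).hom) := by rw [Over.w f]; infer_instance
    exact QuasiCompact.of_comp f.left (GLR R N).hom
  haveI : IsSeparated f.left := by
    have : IsSeparated (f.left ≫ (GLR R N).hom) := by rw [Over.w f]; infer_instance
    exact IsSeparated.of_comp f.left (GLR R N).hom
  have hdim : topologicalKrullDim (Spec (CommRingCat.of R)) ≤ 1 :=
    (j.isOpenEmbedding.isInducing.topologicalKrullDim_le).trans hS
  haveI := Groth.Agent.S2993.result hdim GR (GLR R N) f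
  rw [← Over.w f]
  infer_instance

end Groth.Agent.DynX.SS
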