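import Groth.Agent.AGFHopf.SchBorel
import Groth.Agent.DynX.PtFactor
import Groth.Agent.AGFHopf.SchTor
import Groth.Prelude.Def_Red

/-!
# The rational points of the centre of a semisimple group are finite
-/

set_option autoImplicit false
set_option linter.style.haveILetI false

universe u

open CategoryTheory CategoryTheory.Limits AlgebraicGeometry MonoidalCategory CartesianMonoidalCategory
open MonObj GrpObj
open Groth.Agent.GrpSchLib.Kunneth Groth.Agent.AGFHopf
open Groth.Agent.AGF27 (ptConv)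
open scoped Groth.Agent.AGF27

noncomputable section

namespace Groth.Agent.DynX.SS

variable {k : Type u} [Field k] [IsAlgClosed k]

/-- The centre of the group of rational points of a semisimple group is finite. -/
theorem finite_center (G : Over (Spec (CommRingCat.of k))) [GrpObj G] (hG : Red.IsSemisimpleOver k G) :
    ((Subgroup.center (VecGrp.pt k k ⟶ G) : Subgroup _) : Set (VecGrp.pt k k ⟶ G)).Finite := by
  obtain ⟨⟨haff, hsm, hconn, hred⟩, htor⟩ := hG
  haveI := haff
  haveI := hsm
  haveI : LocallyOfFiniteType G.hom := inferInstance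
  let Γp := WithConv (Fn G →ₐ[k] k)
  let Z : Subgroup Γp := Subgroup.center Γp
  have hcl : ZPts.IsCl (ptR k (Fn G)) (Z : Set Γp) := by
    have e : (Z : Set Γp) = {x | ∀ p : Γp × Fn G, (x⁻¹ * p.1 * x).ofConv p.2 - p.1.ofConv p.2 = 0} := by
      ext x
      show x ∈ Subgroup.center Γp ↔ _
      rw [Subgroup.mem_center_iff]
      constructor
      · rintro h ⟨d, a⟩
        rw [show x⁻¹ * d * x = d by rw [_root_.mul_assoc, h d, inv_mul_cancel_left], sub_self]
      · intro h d
        have h1 : x⁻¹ * d * x = d := WithConv.ofConv_injective (AlgHom.ext fun a => sub_eq_zero.mp (h (d, a)))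
        calc d * x = x * (x⁻¹ * d * x) := by simp [_root_.mul_assoc]
          _ = x * d := by rw [h1]
    rw [e]
    exact ZPts.isCl_setOf_forall fun p : Γp × Fn G =>
      (⟨fun g => (g⁻¹ * p.1 * g).ofConv p.2, mem_ptR_conj (ptEval_mem p.2) p.1⟩ : ptR k (Fn G)) -
        algebraMap k (ptR k (Fn G)) (p.1.ofConv p.2)
  obtain ⟨C, hCZ, hCC, hbig⟩ := exists_component Z hcl
  obtain ⟨H, _, j, _, hjc, hjs, hjconn, hpts, -⟩ := exists_scheme_of_isCC hCC
  haveI := hjc
  haveI := hjs
  haveI := hjconn
  haveI : Mono j := (Over.forget _).mono_of_mono_map (inferInstanceAs (Mono j.left))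
  haveI : IsAffine H.left := isAffine_of_isAffineHom j.left
  have hcomm : ∀ (T : Over (Spec (CommRingCat.of k))) (g : T ⟶ G) (n : T ⟶ H), g * (n ≫ j) * g⁻¹ = n ≫ j := by
    haveI : LocallyOfFiniteType (G ⊗ H).hom :=
      inferInstanceAs (LocallyOfFiniteType (pullback.fst G.hom H.hom ≫ G.hom))
    haveI : Smooth (G ⊗ H).hom := inferInstanceAs (Smooth (pullback.fst G.hom H.hom ≫ G.hom))
    haveI : IsReduced (G ⊗ H).left := GrpSchLib.isReduced_of_smooth_field (G ⊗ H).hom
    let f₁ : G ⊗ H ⟶ G := fst G H * (snd G H ≫ j) * (fst G H)⁻¹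
    let f₂ : G ⊗ H ⟶ G := snd G H ≫ j
    have key : f₁ = f₂ := by
      haveI : IsSeparated G.hom := inferInstance
      haveI : IsClosedImmersion (lift (𝟙 G) (𝟙 G)).left :=
        inferInstanceAs (IsClosedImmersion (pullback.diagonal G.hom))
      obtain ⟨d, hd⟩ := exists_factor_of_kpoints (lift (𝟙 G) (𝟙 G)) (lift f₁ f₂) fun x => by
        refine ⟨x ≫ f₂, ?_⟩
        rw [comp_lift, Category.comp_id, comp_lift]
        congr 1
        let e : VecGrp.pt k k ⟶ RedCell22.tb (𝟙 (Spec (CommRingCat.of k))) k :=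
          Over.homMk (𝟙 _) (by simp [RedCell22.tb, VecGrp.pt])
        haveI : IsIso ((Over.forget _).map e) := inferInstanceAs (IsIso (𝟙 _))
        haveI : IsIso e := isIso_of_reflects_iso e (Over.forget _)
        rw [← cancel_epi e]
        let y := e ≫ x ≫ snd G H ≫ j
        have hy : ptConv G y ∈ Subgroup.center Γp := by
          refine hCZ (hpts.le ?_)
          exact ⟨e ≫ x ≫ snd G H, by simp [y]⟩
        have hy' : y ∈ Subgroup.center (VecGrp.pt k k ⟶ G) := Subgroup.mem_center_iff.mpr fun d =>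
          (ptConv G).injective (by rw [map_mul, map_mul]; exact Subgroup.mem_center_iff.mp hy _)
        simp only [f₁, f₂, MonObj.comp_mul, GrpObj.comp_inv]
        show y = (e ≫ x ≫ fst G H) * y * (e ≫ x ≫ fst G H)⁻¹
        rw [Subgroup.mem_center_iff.mp hy', mul_inv_cancel_right]
      have h1 := congrArg (· ≫ fst G G) hd
      have h2 := congrArg (· ≫ snd G G) hd
      simp only [Category.assoc, lift_fst, lift_snd, Category.comp_id] at h1 h2
      exact h1.symm.trans h2
    intro T g n
    have := congrArg (fun q => lift g n ≫ q) key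
    simpa only [f₁, f₂, MonObj.comp_mul, GrpObj.comp_inv, lift_fst, lift_snd_assoc] using this
  have hnorm : AlgGrp.IsNormalHom j := fun T g n => ⟨n, hcomm T g n⟩
  have htriv : Red.IsTrivialGrp H := by
    refine hred H j hjc hjs hjconn hnorm ?_
    intro T _ t _ _ hT
    haveI : IsClosedImmersion t.left := isClosedImmersion_torus hT t
    refine htor T (t ≫ j) ?_ (fun X g n => ⟨n, ?_⟩) hT
    · rw [Over.comp_left]
      infer_instance
    · rw [← Category.assoc]
      exact hcomm X g (n ≫ t)
  have hC1 : ∀ x ∈ C, x = 1 := by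
    intro x hx
    obtain ⟨h, hh⟩ := hpts.ge hx
    haveI : IsIso H.hom := htriv
    have he : h = 1 := Over.OverMorphism.ext (by
      rw [← cancel_mono H.hom, Over.w, Over.w])
    rw [← hh, he, map_one]
  have hfin : (Z : Set Γp).Finite := by
    obtain ⟨F, hFf, hF, hcof⟩ := ZPts.exists_components isVar_ptR hcl
    have hsubU : (Z : Set Γp) ⊆ ⋃ S ∈ F, S := fun x hx => by
      obtain ⟨S, hS, hsub⟩ := hcof {x} (ZPts.isIrr_singleton x) (Set.singleton_subset_iff.mpr hx)
      exact Set.mem_biUnion hS (hsub rfl)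
    refine Set.Finite.subset (hFf.biUnion fun S hS => ?_) hsubU
    refine Set.Subsingleton.finite fun a ha b hb => ?_
    have hsub : Set.image2 (· * ·) S ((·⁻¹) '' S) ⊆ C := by
      refine hbig _ (isIrr_mul (hF S hS).2.1 (isIrr_inv (hF S hS).2.1)) ?_ ⟨a, ha, a⁻¹, ⟨a, ha, rfl⟩, mul_inv_cancel a⟩
      rintro _ ⟨p, hp, _, ⟨q, hq, rfl⟩, rfl⟩
      exact mul_mem ((hF S hS).2.2 hp) (inv_mem ((hF S hS).2.2 hq))
    exact mul_inv_eq_one.mp (hC1 _ (hsub ⟨a, ha, b⁻¹, ⟨b, hb, rfl⟩, rfl⟩))
  refine (hfin.preimage (ptConv G).injective.injOn).subset fun x hx => Subgroup.mem_center_iff.mpr fun d => ?_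
  obtain ⟨d, rfl⟩ := (ptConv G).surjective d
  rw [← map_mul, ← map_mul, Subgroup.mem_center_iff.mp hx d]

end Groth.Agent.DynX.SS
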