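import Groth.Agent.DynX.SS.AdjRep
import Groth.Agent.DynX.SS.AdjKer
import Groth.Prelude.Def_Red
import Groth.Prelude.Def_VecGrp
import Groth.Agent.GrpSchLib.HomFinite
import Groth.Agent.DSPtsLib.Basic
import Groth.Agent.S8496
import Mathlib.AlgebraicGeometry.Morphisms.QuasiFinite
import Mathlib.AlgebraicGeometry.Noetherian

/-!
# A quasi-finite representation of a semisimple group

Over an affine noetherian base with a chart of the unit section, the adjoint representation on a large enough
infinitesimal neighbourhood of the unit has finite kernel on the geometric fibres, hence is quasi-finite.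
-/

set_option autoImplicit false
set_option linter.style.haveILetI false

universe u

open CategoryTheory CategoryTheory.Limits AlgebraicGeometry MonoidalCategory CartesianMonoidalCategory
open MonObj GrpObj Groth.Agent.GrpSchLib.AffineHopf
open scoped TensorProduct

noncomputable section

namespace Groth.Agent.DynX.SS

/-- The general linear group is of finite type over the base ring. -/
theorem locallyOfFiniteType_GLR (R : Type u) [CommRing R] (N : ℕ) : LocallyOfFiniteType (GLR R N).hom := by
  refine (HasRingHomProperty.Spec_iff (P := @LocallyOfFiniteType)).mpr ?_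
  refine RingHom.finiteType_algebraMap.mpr ?_
  exact @Algebra.FiniteType.of_surjective _ _ _ _ _ _ _ _
    (inferInstance : Algebra.FiniteType R (MvPolynomial (CoordGrp.GLPoly.Idx N) R)) (CoordGrp.GLn.mk N R)
    Ideal.Quotient.mk_surjective

/-- The general linear group is affine over the base ring. -/
instance isAffineHom_GLR (R : Type u) [CommRing R] (N : ℕ) : IsAffineHom (GLR R N).hom :=
  isAffineHom_of_isAffine (X := Spec (CommRingCat.of (CoordGrp.GLn N R))) (Y := Spec (CommRingCat.of R)) _

/-- The general linear group is separated over the base ring. -/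
instance isSeparated_GLR (R : Type u) [CommRing R] (N : ℕ) : IsSeparated (GLR R N).hom := inferInstance

/-- A point with values in a field is trivial exactly when its image lies on the unit section. -/
theorem eq_one_iff_mem_range {R : Type u} [CommRing R] {H : Over (Spec (CommRingCat.of R))} [GrpObj H]
    [IsSeparated H.hom] {K : Type u} [Field K] [Algebra R K] (g : sp R K ⟶ H) :
    g = 1 ↔ g.left (IsLocalRing.closedPoint K) ∈ Set.range η[H].left := by
  have h1 : (1 : sp R K ⟶ H) = toUnit _ ≫ η[H] := Hom.one_def
  constructor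
  · rintro rfl
    exact ⟨(toUnit (sp R K)).left (IsLocalRing.closedPoint K), by
      rw [h1, Over.comp_left, Scheme.Hom.comp_apply]⟩
  · rintro ⟨s, hs⟩
    haveI : IsClosedImmersion η[H].left := by
      have : IsClosedImmersion (η[H].left ≫ H.hom) := by rw [Over.w η[H]]; exact inferInstanceAs (IsClosedImmersion (𝟙 _))
      exact IsClosedImmersion.of_comp η[H].left H.hom
    let q : pullback g.left η[H].left ⟶ (sp R K).left := pullback.fst _ _
    haveI : Surjective q := ⟨fun z => by
      obtain ⟨w, hw, -⟩ := Scheme.Pullback.exists_preimage_pullback (f := g.left) (g := η[H].left)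
        (IsLocalRing.closedPoint K) s hs.symm
      exact ⟨w, hw.trans (@Subsingleton.elim (PrimeSpectrum K) _ _ _)⟩⟩
    haveI : AlgebraicGeometry.IsReduced (sp R K).left :=
      inferInstanceAs (AlgebraicGeometry.IsReduced (Spec (CommRingCat.of K)))
    haveI : IsIso q := isIso_of_isClosedImmersion_of_surjective q
    have h2 : g.left = (inv q ≫ pullback.snd g.left η[H].left) ≫ η[H].left := by
      rw [Category.assoc, ← pullback.condition, IsIso.inv_hom_id_assoc]
    let t : sp R K ⟶ 𝟙_ (Over (Spec (CommRingCat.of R))) :=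
      Over.homMk (inv q ≫ pullback.snd g.left η[H].left) (by
        rw [← Over.w η[H], ← Category.assoc, ← h2]
        exact Over.w g)
    rw [h1, show toUnit (sp R K) = t from toUnit_unique _ _]
    exact Over.OverMorphism.ext h2

section Fibre

variable {R : Type u} [CommRing R] {G H : Over (Spec (CommRingCat.of R))} [GrpObj G] [GrpObj H] (c : Chart G)

/-- A homomorphism whose kernel fixes all infinitesimal neighbourhoods has finite kernel on a semisimple
geometric fibre. -/
theorem finite_kernel_fibre [Smooth G.hom] [QuasiCompact G.hom] [IsSeparated G.hom] [IsSeparated H.hom]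
    (hconn : ∀ s : Spec (CommRingCat.of R), ConnectedSpace ↥(Red.geomFibre s G).left)
    (f : G ⟶ H) [IsMonHom f]
    (hker : ∀ (K : Type u) [Field K] [IsAlgClosed K] [Algebra R K] (g : sp R K ⟶ G),
      g ≫ f = 1 → ∀ n, c.act n g = inR c n)
    {K : Type u} [Field K] [IsAlgClosed K] (b : Spec (CommRingCat.of K) ⟶ Spec (CommRingCat.of R))
    (hcen : ((Subgroup.center (VecGrp.pt K K ⟶ (Over.pullback b).obj G) : Subgroup _) :
      Set (VecGrp.pt K K ⟶ (Over.pullback b).obj G)).Finite) :
    (((Over.pullback b).map f).left ⁻¹' {η[(Over.pullback b).obj H].left (IsLocalRing.closedPoint K)}).Finite := by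
  let GK := (Over.pullback b).obj G
  let HK := (Over.pullback b).obj H
  let fK : GK ⟶ HK := (Over.pullback b).map f
  haveI : LocallyOfFiniteType GK.hom := inferInstanceAs (LocallyOfFiniteType (pullback.snd G.hom b))
  haveI : IsSeparated HK.hom := inferInstanceAs (IsSeparated (pullback.snd H.hom b))
  haveI : JacobsonSpace ↥GK.left := LocallyOfFiniteType.jacobsonSpace GK.hom
  letI : Algebra R K := (Spec.preimage b).hom.toAlgebra
  have hb : Spec.map (CommRingCat.ofHom (algebraMap R K)) = b := Spec.map_preimage b
  let e : sp R K ≅ (Over.map b).obj (VecGrp.pt K K) := Over.isoMk (Iso.refl _) (by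
    show 𝟙 _ ≫ Spec.map (CommRingCat.ofHom (algebraMap K K)) ≫ b = Spec.map (CommRingCat.ofHom (algebraMap R K))
    rw [hb, Algebra.algebraMap_self, Category.id_comp, CommRingCat.ofHom_id, Spec.map_id, Category.id_comp])
  let pt : Spec (CommRingCat.of K) := IsLocalRing.closedPoint K
  let Z : Set ↥GK.left := fK.left ⁻¹' {η[HK].left pt}
  have hZc : IsClosed Z := by
    refine IsClosed.preimage fK.left.continuous ?_
    haveI : IsClosedImmersion η[HK].left := by
      have : IsClosedImmersion (η[HK].left ≫ HK.hom) := by rw [Over.w η[HK]]; exact inferInstanceAs (IsClosedImmersion (𝟙 _))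
      exact IsClosedImmersion.of_comp η[HK].left HK.hom
    have h := η[HK].left.isClosedEmbedding.isClosedMap _
      (isClosed_discrete (α := ↥(Spec (CommRingCat.of K))) {pt})
    exact (Set.image_singleton (f := η[HK].left)) ▸ h
  let C : Set (VecGrp.pt K K ⟶ GK) := (Subgroup.center (VecGrp.pt K K ⟶ GK) : Subgroup _)
  have hsub : Z ∩ closedPoints ↥GK.left ⊆ (fun a : VecGrp.pt K K ⟶ GK => a.left pt) '' C := by
    rintro z ⟨hz, hzc⟩
    let a : VecGrp.pt K K ⟶ GK := Over.homMk (pointOfClosedPoint GK.hom z hzc) (by
      show _ = Spec.map (CommRingCat.ofHom (algebraMap K K))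
      rw [Algebra.algebraMap_self, CommRingCat.ofHom_id, Spec.map_id]
      exact pointOfClosedPoint_comp GK.hom z hzc)
    have hazz : a.left pt = z := pointOfClosedPoint_apply GK.hom z hzc _
    refine ⟨a, ?_, hazz⟩
    have haf : a ≫ fK = 1 := by
      refine (eq_one_iff_mem_range (R := K) (K := K) (H := HK) (a ≫ fK)).mpr ⟨pt, ?_⟩
      show η[HK].left pt = fK.left (a.left pt)
      rw [hazz]
      exact (hz : fK.left z = η[HK].left pt).symm
    have hmul : ∀ {X : Over (Spec (CommRingCat.of R))} [GrpObj X] (x y : VecGrp.pt K K ⟶ (Over.pullback b).obj X),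
        e.hom ≫ DSPtsLib.theta b (x * y) = (e.hom ≫ DSPtsLib.theta b x) * (e.hom ≫ DSPtsLib.theta b y) := by
      intro X _ x y
      rw [DSPtsLib.theta_mul, MonObj.comp_mul]
    have hone : e.hom ≫ DSPtsLib.theta b (1 : VecGrp.pt K K ⟶ HK) = 1 := by
      have := hmul (X := H) (1 : VecGrp.pt K K ⟶ HK) 1
      rw [_root_.one_mul] at this
      exact (left_eq_mul.mp this)
    let g : sp R K ⟶ G := e.hom ≫ DSPtsLib.theta b a
    have hgf : g ≫ f = 1 := by
      rw [← hone, ← haf, Category.assoc]
      congr 1
      exact (Adjunction.homEquiv_naturality_right_symm _ a f).symm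
    refine Subgroup.mem_center_iff.mpr fun d => (DSPtsLib.theta_bijective b).injective ?_
    rw [← cancel_epi e.hom, hmul, hmul]
    exact (c.comm_of_trivial hconn g (hker K g hgf) _).symm
  have hfin : (Z ∩ closedPoints ↥GK.left).Finite :=
    (hcen.image _).subset hsub
  have hcl : IsClosed (Z ∩ closedPoints ↥GK.left) := by
    rw [← Set.biUnion_of_singleton (Z ∩ closedPoints ↥GK.left)]
    exact hfin.isClosed_biUnion fun z hz => hz.2
  have hZ := closure_inter_closedPoints (X := ↥GK.left) hZc
  rw [hcl.closure_eq] at hZ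
  show Z.Finite
  rw [← hZ]
  exact hfin

/-- Such a homomorphism is locally quasi-finite. -/
theorem locallyQuasiFinite_of_kernel [Smooth G.hom] [QuasiCompact G.hom] [IsSeparated G.hom] [IsSeparated H.hom]
    [LocallyOfFiniteType H.hom]
    (f : G ⟶ H) [IsMonHom f]
    (hker : ∀ (K : Type u) [Field K] [IsAlgClosed K] [Algebra R K] (g : sp R K ⟶ G),
      g ≫ f = 1 → ∀ n, c.act n g = inR c n)
    (hconn : ∀ s : Spec (CommRingCat.of R), ConnectedSpace ↥(Red.geomFibre s G).left)
    (hcen : ∀ s : Spec (CommRingCat.of R), ∃ (K : Type u) (_ : Field K) (_ : IsAlgClosed K)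
      (b : Spec (CommRingCat.of K) ⟶ Spec (CommRingCat.of R)), b (IsLocalRing.closedPoint K) = s ∧
      ((Subgroup.center (VecGrp.pt K K ⟶ (Over.pullback b).obj G) : Subgroup _) :
        Set (VecGrp.pt K K ⟶ (Over.pullback b).obj G)).Finite) :
    LocallyQuasiFinite f.left := by
  haveI : LocallyOfFiniteType f.left := by
    have : LocallyOfFiniteType (f.left ≫ H.hom) := by rw [Over.w f]; infer_instance
    exact locallyOfFiniteType_of_comp f.left H.hom
  haveI : QuasiCompact f.left := by
    have : QuasiCompact (f.left ≫ H.hom) := by rw [Over.w f]; infer_instance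
    exact QuasiCompact.of_comp f.left H.hom
  refine LocallyQuasiFinite.of_finite_preimage_singleton _ fun y => ?_
  let s : Spec (CommRingCat.of R) := H.hom y
  obtain ⟨K, iK, iKc, b, hbs, hb⟩ := hcen s
  let F := Over.pullback b
  haveI : LocallyOfFiniteType (F.obj G).hom := inferInstanceAs (LocallyOfFiniteType (pullback.snd G.hom b))
  haveI : LocallyOfFiniteType (F.obj H).hom := inferInstanceAs (LocallyOfFiniteType (pullback.snd H.hom b))
  have hsq := Groth.Agent.S8496.isPullback_map f b
  haveI : QuasiCompact (F.map f).left := MorphismProperty.of_isPullback (P := @QuasiCompact) hsq.flip inferInstance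
  haveI := GrpSchLib.HomFinite.locallyQuasiFinite_of_finite_preimage (F.map f)
    (finite_kernel_fibre c hconn f hker b hb)
  obtain ⟨y', hy', -⟩ := Scheme.Pullback.exists_preimage_pullback (f := H.hom) (g := b) y
    (IsLocalRing.closedPoint K) hbs.symm
  refine (((F.map f).left.finite_preimage_singleton y').image (pullback.fst G.hom b)).subset ?_
  intro x hx
  obtain ⟨w, hw1, hw2⟩ := Scheme.Pullback.exists_preimage_pullback (f := pullback.fst H.hom b) (g := f.left) y' x
    (hy'.trans hx.symm)
  refine ⟨hsq.isoPullback.inv w, ?_, ?_⟩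
  · show (F.map f).left _ = y'
    rw [← Scheme.Hom.comp_apply, hsq.isoPullback_inv_fst]
    exact hw1
  · rw [← Scheme.Hom.comp_apply]
    exact (congrArg (fun m : _ ⟶ G.left => m w) hsq.isoPullback_inv_snd).trans hw2

end Fibre

/-- Over a noetherian affine base, a semisimple group with a chart has a quasi-finite representation. -/
theorem exists_quasiFinite_hom {R : Type u} [CommRing R] [IsNoetherianRing R]
    {G : Over (Spec (CommRingCat.of R))} [GrpObj G] (c : Chart G) [Smooth G.hom] [QuasiCompact G.hom]
    [IsSeparated G.hom]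
    (hconn : ∀ s : Spec (CommRingCat.of R), ConnectedSpace ↥(Red.geomFibre s G).left)
    (hcen : ∀ s : Spec (CommRingCat.of R), ∃ (K : Type u) (_ : Field K) (_ : IsAlgClosed K)
      (b : Spec (CommRingCat.of K) ⟶ Spec (CommRingCat.of R)), b (IsLocalRing.closedPoint K) = s ∧
      ((Subgroup.center (VecGrp.pt K K ⟶ (Over.pullback b).obj G) : Subgroup _) :
        Set (VecGrp.pt K K ⟶ (Over.pullback b).obj G)).Finite) :
    ∃ (N : ℕ) (f : G ⟶ GLR R N), IsMonHom f ∧ LocallyQuasiFinite f.left := by
  classical
  have hp : ∀ n, Nonempty (Pres c n) := fun n => nonempty_pres c n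
  choose f hf hf1 using fun n => (hp n).some.exists_hom
  let Kset : ℕ → Set ↥G.left := fun n => (f n).left ⁻¹' Set.range η[GLR R (hp n).some.N].left
  have hclosed : ∀ n, IsClosed (Kset n) := fun n => by
    refine IsClosed.preimage (f n).left.continuous ?_
    haveI : IsClosedImmersion η[GLR R (hp n).some.N].left := by
      have : IsClosedImmersion (η[GLR R (hp n).some.N].left ≫ (GLR R (hp n).some.N).hom) := by
        rw [Over.w η[GLR R (hp n).some.N]]; exact inferInstanceAs (IsClosedImmersion (𝟙 _))
      exact IsClosedImmersion.of_comp _ (GLR R (hp n).some.N).hom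
    exact η[GLR R (hp n).some.N].left.isClosedEmbedding.isClosed_range
  have hmem : ∀ (n : ℕ) (L : Type u) [Field L] [Algebra R L] (g : sp R L ⟶ G),
      g.left (IsLocalRing.closedPoint L) ∈ Kset n ↔ c.act n g = inR c n := by
    intro n L _ _ g
    rw [← hf1 n L g, eq_one_iff_mem_range]
    rfl
  have hanti : ∀ m n, m ≤ n → Kset n ⊆ Kset m := by
    intro m n hmn x hx
    let L := G.left.residueField x
    let i : Spec L ⟶ G.left := G.left.fromSpecResidueField x
    letI : Algebra R L := (Spec.preimage (i ≫ G.hom)).hom.toAlgebra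
    let g : sp R L ⟶ G := Over.homMk i (Spec.map_preimage (i ≫ G.hom)).symm
    have hg : g.left (IsLocalRing.closedPoint L) = x := Scheme.fromSpecResidueField_apply _ _
    rw [← hg] at hx ⊢
    exact (hmem m L g).mpr (c.act_eq_of_le n hmn g ((hmem n L g).mp hx))
  haveI : IsLocallyNoetherian (Spec (CommRingCat.of R)) := inferInstance
  haveI : IsLocallyNoetherian G.left := LocallyOfFiniteType.isLocallyNoetherian G.hom
  haveI : CompactSpace ↥G.left := QuasiCompact.compactSpace_of_compactSpace G.hom
  haveI : AlgebraicGeometry.IsNoetherian G.left := {}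
  haveI : TopologicalSpace.NoetherianSpace ↥G.left := inferInstance
  obtain ⟨_, ⟨N, rfl⟩, hN⟩ := (wellFounded_lt (α := TopologicalSpace.Closeds ↥G.left)).has_min
    (Set.range fun n => (⟨Kset n, hclosed n⟩ : TopologicalSpace.Closeds ↥G.left)) (Set.range_nonempty _)
  have hall : ∀ n, Kset N ⊆ Kset n := by
    intro n
    rcases le_total n N with h | h
    · exact hanti n N h
    · by_contra hne
      exact hN _ ⟨n, rfl⟩ (lt_of_le_not_ge (hanti N n h) hne)
  haveI := hf N
  haveI : IsSeparated (GLR R (hp N).some.N).hom := inferInstance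
  haveI := locallyOfFiniteType_GLR R (hp N).some.N
  refine ⟨_, f N, hf N, locallyQuasiFinite_of_kernel c (f N) (fun K _ _ _ g hg n => ?_) hconn hcen⟩
  exact (hmem n K g).mp (hall n ((hmem N K g).mpr ((hf1 N K g).mp hg)))

end Groth.Agent.DynX.SS
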