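import Groth.Agent.GrpSchLib.AffineHopf
import Mathlib.AlgebraicGeometry.Gluing

/-!
# Morphisms from natural families of maps on points with values in algebras
-/

set_option autoImplicit false
set_option linter.style.haveILetI false

universe u

open CategoryTheory CategoryTheory.Limits AlgebraicGeometry MonoidalCategory CartesianMonoidalCategory
open MonObj GrpObj Groth.Agent.GrpSchLib.AffineHopf

noncomputable section

namespace Groth.Agent.DynX.SS

variable {R : Type u} [CommRing R] {A B : Type u} [CommRing A] [CommRing B] [Algebra R A] [Algebra R B]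

theorem sp_hom : (sp R A).hom = Spec.map (CommRingCat.ofHom (algebraMap R A)) := rfl

theorem exists_spMap (g : sp R A ⟶ sp R B) : ∃ f : B →ₐ[R] A, g = spMap f := by
  obtain ⟨φ, hφ⟩ := Spec.map_surjective g.left
  have h : Spec.map (CommRingCat.ofHom (algebraMap R B) ≫ φ) = Spec.map (CommRingCat.ofHom (algebraMap R A)) := by
    rw [Spec.map_comp, hφ]; exact Over.w g
  have h2 := congrArg CommRingCat.Hom.hom (Spec.map_injective h)
  exact ⟨⟨φ.hom, fun c => RingHom.congr_fun h2 c⟩, Over.OverMorphism.ext hφ.symm⟩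

theorem spMap_inj {f g : B →ₐ[R] A} (h : spMap f = spMap g) : f = g :=
  AlgHom.coe_ringHom_injective (congrArg CommRingCat.Hom.hom (Spec.map_injective (congrArg CommaMorphism.left h)))

variable (T : Over (Spec (CommRingCat.of R))) [IsAffine T.left]

/-- The algebra structure on the functions of an affine scheme over `R`. -/
instance fnAlgebra : Algebra R Γ(T.left, ⊤) := (Spec.preimage (T.left.isoSpec.inv ≫ T.hom)).hom.toAlgebra

/-- An affine scheme over `R` is the spectrum of its functions. -/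
def spIsoSelf : sp R Γ(T.left, ⊤) ≅ T :=
  Over.isoMk T.left.isoSpec.symm (Spec.map_preimage (T.left.isoSpec.inv ≫ T.hom)).symm

variable {T}

/-- A natural family of maps on algebra-valued points comes from a morphism. -/
theorem exists_hom_of_natural {X Y : Over (Spec (CommRingCat.of R))}
    (F : ∀ (C : Type u) [CommRing C] [Algebra R C], (sp R C ⟶ X) → (sp R C ⟶ Y))
    (hF : ∀ (C C' : Type u) [CommRing C] [Algebra R C] [CommRing C'] [Algebra R C'] (φ : C →ₐ[R] C')
      (g : sp R C ⟶ X), F C' (spMap φ ≫ g) = spMap φ ≫ F C g) :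
    ∃ f : X ⟶ Y, ∀ (C : Type u) [CommRing C] [Algebra R C] (g : sp R C ⟶ X), g ≫ f = F C g := by
  classical
  let F' : ∀ (T : Over (Spec (CommRingCat.of R))) [IsAffine T.left], (T ⟶ X) → (T ⟶ Y) := fun T _ g =>
    (spIsoSelf T).inv ≫ F _ ((spIsoSelf T).hom ≫ g)
  have hF' : ∀ (T T' : Over (Spec (CommRingCat.of R))) [IsAffine T.left] [IsAffine T'.left] (t : T' ⟶ T)
      (g : T ⟶ X), F' T' (t ≫ g) = t ≫ F' T g := by
    intro T T' _ _ t g
    obtain ⟨φ, hφ⟩ := exists_spMap ((spIsoSelf T').hom ≫ t ≫ (spIsoSelf T).inv)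
    show (spIsoSelf T').inv ≫ F _ ((spIsoSelf T').hom ≫ t ≫ g) = t ≫ (spIsoSelf T).inv ≫ _
    have e : (spIsoSelf T').hom ≫ t ≫ g = spMap φ ≫ (spIsoSelf T).hom ≫ g := by
      rw [← hφ]; simp
    rw [e, hF, ← hφ]
    simp
  let 𝒰 := X.left.affineCover
  let Ti : ∀ i, Over (Spec (CommRingCat.of R)) := fun i => Over.mk (𝒰.f i ≫ X.hom)
  let ti : ∀ i, Ti i ⟶ X := fun i => Over.homMk (𝒰.f i) rfl
  haveI : ∀ i, IsAffine (Ti i).left := fun i => inferInstanceAs (IsAffine (𝒰.X i))
  let fi : ∀ i, 𝒰.X i ⟶ Y.left := fun i => (F' (Ti i) (ti i)).left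
  have key : ∀ (i : 𝒰.I₀) (Z : Over (Spec (CommRingCat.of R))) [IsAffine Z.left] (w : Z ⟶ Ti i),
      w.left ≫ fi i = (F' Z (w ≫ ti i)).left := fun i Z _ w => by
    rw [hF', Over.comp_left]
  have hc : ∀ a b, pullback.fst (𝒰.f a) (𝒰.f b) ≫ fi a = pullback.snd (𝒰.f a) (𝒰.f b) ≫ fi b := by
    intro a b
    refine (pullback (𝒰.f a) (𝒰.f b)).affineCover.hom_ext _ _ fun c => ?_
    let z := (pullback (𝒰.f a) (𝒰.f b)).affineCover.f c
    let Z : Over (Spec (CommRingCat.of R)) := Over.mk (z ≫ pullback.fst (𝒰.f a) (𝒰.f b) ≫ 𝒰.f a ≫ X.hom)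
    haveI : IsAffine Z.left := inferInstanceAs (IsAffine ((pullback (𝒰.f a) (𝒰.f b)).affineCover.X c))
    let wa : Z ⟶ Ti a := Over.homMk (z ≫ pullback.fst (𝒰.f a) (𝒰.f b)) (Category.assoc _ _ _)
    let wb : Z ⟶ Ti b := Over.homMk (z ≫ pullback.snd (𝒰.f a) (𝒰.f b))
      (show (z ≫ pullback.snd (𝒰.f a) (𝒰.f b)) ≫ 𝒰.f b ≫ X.hom = _ by
        rw [Category.assoc, ← pullback.condition_assoc]; rfl)
    have e : wa ≫ ti a = wb ≫ ti b := by
      ext1
      show (z ≫ pullback.fst (𝒰.f a) (𝒰.f b)) ≫ 𝒰.f a = (z ≫ pullback.snd (𝒰.f a) (𝒰.f b)) ≫ 𝒰.f b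
      rw [Category.assoc, Category.assoc, pullback.condition]
    rw [← Category.assoc, ← Category.assoc]
    exact (key a Z wa).trans ((congrArg (fun q => (F' Z q).left) e).trans (key b Z wb).symm)
  let fl := 𝒰.glueMorphisms fi hc
  have hfl : ∀ i, 𝒰.f i ≫ fl = fi i := fun i => 𝒰.ι_glueMorphisms fi hc i
  let f : X ⟶ Y := Over.homMk fl (𝒰.hom_ext _ _ fun i => by
    rw [← Category.assoc, hfl]
    exact Over.w (F' (Ti i) (ti i)))
  refine ⟨f, fun C _ _ g => ?_⟩
  haveI : IsAffine (sp R C).left := inferInstanceAs (IsAffine (Spec (CommRingCat.of C)))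
  have hg : F' (sp R C) g = F C g := by
    obtain ⟨φ, hφ⟩ := exists_spMap (spIsoSelf (sp R C)).hom
    show (spIsoSelf (sp R C)).inv ≫ F _ ((spIsoSelf (sp R C)).hom ≫ g) = F C g
    rw [hφ, hF, ← hφ, Iso.inv_hom_id_assoc]
  rw [← hg]
  ext1
  refine (sp R C).left.affineCover.hom_ext _ _ fun j => ?_
  refine Scheme.Cover.hom_ext (X.left.affineCover.pullback₁ ((sp R C).left.affineCover.f j ≫ g.left)) _ _ fun i => ?_
  let p := (pullback.fst ((sp R C).left.affineCover.f j ≫ g.left) (𝒰.f i))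
  let q := (pullback.snd ((sp R C).left.affineCover.f j ≫ g.left) (𝒰.f i))
  refine (pullback ((sp R C).left.affineCover.f j ≫ g.left) (𝒰.f i)).affineCover.hom_ext _ _ fun c => ?_
  let z := (pullback ((sp R C).left.affineCover.f j ≫ g.left) (𝒰.f i)).affineCover.f c
  let Z : Over (Spec (CommRingCat.of R)) := Over.mk (z ≫ q ≫ 𝒰.f i ≫ X.hom)
  haveI : IsAffine Z.left := inferInstanceAs (IsAffine ((pullback _ (𝒰.f i)).affineCover.X c))
  let w : Z ⟶ Ti i := Over.homMk (z ≫ q) (Category.assoc _ _ _)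
  let t : Z ⟶ sp R C := Over.homMk (z ≫ p ≫ (sp R C).left.affineCover.f j) (by
    show (z ≫ p ≫ _) ≫ (sp R C).hom = z ≫ q ≫ 𝒰.f i ≫ X.hom
    rw [← Over.w g]
    simp only [p, q, Category.assoc, ← pullback.condition_assoc])
  have e : t ≫ g = w ≫ ti i := by
    ext1
    show (z ≫ p ≫ _) ≫ g.left = (z ≫ q) ≫ 𝒰.f i
    simp only [p, q, Category.assoc]
    rw [pullback.condition]
  have h1 : t.left ≫ g.left ≫ fl = t.left ≫ (F' (sp R C) g).left := by
    have e' : t.left ≫ g.left = w.left ≫ 𝒰.f i := congrArg CommaMorphism.left e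
    rw [← Category.assoc, e', Category.assoc, hfl, key i Z w, ← e, hF', Over.comp_left]
  simp only [t, Over.homMk_left, Category.assoc] at h1
  exact h1

end Groth.Agent.DynX.SS
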